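import Cfsg.Agent.Lib.SelfCentThree.Basic
import Cfsg.Agent.Lib.SelfCentPrime.Basic
import Cfsg.Agent.Lib.Char.ClassMult
import Cfsg.Agent.Lib.Char.Linear
import Cfsg.Agent.Lib.Char.Eigen
import Cfsg.Agent.Lib.Char.Integral
import Cfsg.Agent.Lib.Char.PRegular

/-!
# The three characters of a simple group with a self-centralizing element of order three

`exists_data` : the degree `d` and the value `s` on involutions, with the class equations.
-/

set_option autoImplicit false
set_option linter.unusedSectionVars false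

open scoped ComplexConjugate Pointwise

namespace Cfsg.Agent.SelfCentThree

open Cfsg Subgroup

variable {G : Type*} [Group G] [Finite G]

theorem isConj_of_sc [IsSimpleGroup G] (hG : ¬ IsMulCommutative G) {x : G} (hx : SC x) :
    IsConj x x⁻¹ := by
  by_contra hne
  have : Fact (Nat.Prime 3) := ⟨Nat.prime_three⟩
  have hC : Subgroup.centralizer ({x} : Set G) = Subgroup.zpowers x := le_antisymm
    (fun g hg => hx.cent g (mem_centralizer_singleton_iff.mp hg))
    (zpowers_le.mpr (mem_centralizer_singleton_iff.mpr rfl))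
  obtain ⟨P, hP⟩ := SelfCentPrime.exists_sylow Nat.prime_three hx.ord hC
  have hNC : normalizer (P : Set G) ≤ centralizer (P : Set G) := by
    intro n hn
    have hn' : n ∈ normalizer ((P : Subgroup G) : Set G) := hn
    rw [hP] at hn'
    have hmem := (mem_normalizer_iff.mp hn' x).mp (mem_zpowers x)
    have hc : Commute n x := by
      obtain ⟨i, hi⟩ := mem_zpowers_iff.mp hmem
      rw [← zpow_mod_orderOf, hx.ord] at hi
      have h3 : i % ((3 : ℕ) : ℤ) = 0 ∨ i % ((3 : ℕ) : ℤ) = 1 ∨ i % ((3 : ℕ) : ℤ) = 2 := by omega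
      rcases h3 with e | e | e <;> rw [e] at hi
      · rw [zpow_zero, eq_comm, conj_eq_one_iff] at hi
        exact absurd hi hx.ne_one
      · rw [zpow_one] at hi
        exact mul_inv_eq_iff_eq_mul.mp hi.symm
      · refine absurd (isConj_iff.mpr ⟨n, ?_⟩) hne
        rw [← hi, zpow_two, hx.inv_eq]
    show n ∈ centralizer ((P : Subgroup G) : Set G)
    rw [hP]
    intro s hs
    obtain ⟨i, rfl⟩ := mem_zpowers_iff.mp hs
    exact (hc.zpow_right i).eq.symm
  have hcomp := MonoidHom.ker_transferSylow_isComplement' P hNC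
  have hP3 : Nat.card (P : Subgroup G) = 3 := by rw [hP, Nat.card_zpowers, hx.ord]
  rcases (MonoidHom.normal_ker (MonoidHom.transferSylow P hNC)).eq_bot_or_eq_top with h | h
  · have hc := hcomp.card_mul_card
    rw [h, Subgroup.card_bot, one_mul, hP3] at hc
    have : IsCyclic G := isCyclic_of_prime_card hc.symm
    exact hG IsCyclic.isMulCommutative
  · have hc := hcomp.card_mul_card
    rw [h, Subgroup.card_top, hP3] at hc
    have : 0 < Nat.card G := Nat.card_pos
    omega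

/-- The value of a character at a real element of order dividing 3 is an integer. -/
theorem exists_int_of_cube {χ : G → ℂ} (hχ : IsCharacter G χ) {g : G} (hg : g ^ 3 = 1)
    (hr : IsConj g g⁻¹) : ∃ (v : ℤ) (n : ℕ), χ g = v ∧ χ 1 = n ∧ (3 : ℤ) ∣ (n : ℤ) - v := by
  classical
  have hint := Char.IsCharacter.isIntegral hχ g
  have hreal : conj (χ g) = χ g := by
    rw [← Char.IsCharacter.apply_inv hχ]
    obtain ⟨c, hc⟩ := isConj_iff.mp hr
    rw [← hc, Char.IsCharacter.isClassFunction hχ g c]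
  obtain ⟨n, ρ, rfl⟩ := hχ
  obtain ⟨b, μ, hμ, hroot⟩ := Char.exists_eigenbasis ρ g
  have hsum := Char.character_eq_sum_eigenvalues ρ g b μ hμ
  have h3 : ∀ i, μ i ^ 3 = 1 := fun i => by
    have hd : orderOf g ∣ 3 := orderOf_dvd_of_pow_eq_one hg
    obtain ⟨k, hk⟩ := hd
    rw [hk, pow_mul, hroot, one_pow]
  have hμ2 : ∀ i, ∃ e : ℤ, μ i + conj (μ i) = e ∧ (3 : ℤ) ∣ e - 2 := fun i => by
    have hinv : conj (μ i) = μ i ^ 2 := by
      rw [← Complex.inv_eq_conj (Complex.norm_eq_one_of_pow_eq_one (h3 i) (by norm_num))]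
      exact inv_eq_of_mul_eq_one_right (by rw [← pow_succ', h3])
    by_cases h1 : μ i = 1
    · exact ⟨2, by rw [h1, map_one]; norm_num, by norm_num⟩
    · refine ⟨-1, ?_, by norm_num⟩
      rw [hinv]
      have : (μ i - 1) * (μ i ^ 2 + μ i + 1) = 0 := by linear_combination h3 i
      rcases mul_eq_zero.mp this with e | e
      · exact absurd (sub_eq_zero.mp e) h1
      · push_cast; linear_combination e
  choose e he he3 using hμ2
  have h2v : ((2 : ℕ) : ℂ) * ρ.character g = ((∑ i, e i : ℤ) : ℂ) := by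
    push_cast
    rw [two_mul]
    conv_lhs => arg 2; rw [← hreal]
    rw [hsum, map_sum, ← Finset.sum_add_distrib]
    exact Finset.sum_congr rfl fun i _ => he i
  obtain ⟨v, hv⟩ := Char.exists_int_of_isIntegral_mul (by norm_num) h2v hint
  refine ⟨v, n, hv, by rw [Representation.char_one, Module.finrank_fin_fun], ?_⟩
  rw [hv] at h2v
  have h' : 2 * v = ∑ i, e i := by exact_mod_cast h2v
  have hd : (3 : ℤ) ∣ ∑ i, (e i - 2) := Finset.dvd_sum fun i _ => he3 i
  rw [Finset.sum_sub_distrib, ← h', Finset.sum_const, Finset.card_univ, Fintype.card_fin,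
    Module.finrank_fin_fun, nsmul_eq_mul] at hd
  omega

/-- The value of a character at an involution is an integer. -/
theorem exists_int_of_sq {χ : G → ℂ} (hχ : IsCharacter G χ) {g : G} (hg : g ^ 2 = 1) :
    ∃ v : ℤ, χ g = v := by
  obtain ⟨n, ρ, rfl⟩ := hχ
  obtain ⟨b, μ, hμ, hroot⟩ := Char.exists_eigenbasis ρ g
  have h2 : ∀ i, ∃ e : ℤ, μ i = e := fun i => by
    have hd : orderOf g ∣ 2 := orderOf_dvd_of_pow_eq_one hg
    obtain ⟨k, hk⟩ := hd
    have : μ i ^ 2 = 1 := by rw [hk, pow_mul, hroot, one_pow]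
    rcases sq_eq_one_iff.mp this with e | e
    · exact ⟨1, by rw [e]; norm_num⟩
    · exact ⟨-1, by rw [e]; norm_num⟩
  choose e he using h2
  refine ⟨∑ i, e i, ?_⟩
  rw [Char.character_eq_sum_eigenvalues ρ g b μ hμ]
  push_cast
  exact Finset.sum_congr rfl fun i _ => he i

theorem three_support {ι : Type*} [Fintype ι] [DecidableEq ι] (c : ι → ℤ) (h : ∑ i, c i ^ 2 = 3)
    (i₀ : ι) (hi₀ : c i₀ = 1) :
    ∃ a b : ι, a ≠ i₀ ∧ b ≠ i₀ ∧ a ≠ b ∧ (c a = 1 ∨ c a = -1) ∧ (c b = 1 ∨ c b = -1) ∧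
      ∀ i, i ≠ i₀ → i ≠ a → i ≠ b → c i = 0 := by
  classical
  have hle : ∀ i, c i ^ 2 ≤ 3 := fun i =>
    h ▸ Finset.single_le_sum (f := fun i => c i ^ 2) (fun _ _ => sq_nonneg _) (Finset.mem_univ i)
  have hone : ∀ i, c i = 0 ∨ c i = 1 ∨ c i = -1 := fun i => by
    have h1 := hle i
    have h2 : -1 ≤ c i ∧ c i ≤ 1 := by constructor <;> nlinarith
    omega
  have hc : (Finset.univ.filter fun i => c i ≠ 0).card = 3 := by
    have : ∑ i, c i ^ 2 = ∑ i, if c i ≠ 0 then 1 else 0 :=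
      Finset.sum_congr rfl fun i _ => by rcases hone i with e | e | e <;> simp [e]
    rw [this, Finset.sum_boole] at h
    exact_mod_cast h
  have hmem : i₀ ∈ Finset.univ.filter fun i => c i ≠ 0 := by simp [hi₀]
  obtain ⟨a, b, hab, he⟩ := Finset.card_eq_two.mp
    (show ((Finset.univ.filter fun i => c i ≠ 0).erase i₀).card = 2 by
      rw [Finset.card_erase_of_mem hmem, hc])
  have ha : a ≠ i₀ ∧ c a ≠ 0 := by
    have := he.symm.subset (Finset.mem_insert_self a {b})
    simpa using this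
  have hb : b ≠ i₀ ∧ c b ≠ 0 := by
    have := he.symm.subset (Finset.mem_insert_of_mem (Finset.mem_singleton_self b))
    simpa using this
  refine ⟨a, b, ha.1, hb.1, hab, (hone a).resolve_left ha.2, (hone b).resolve_left hb.2,
    fun i h1 h2 h3 => ?_⟩
  by_contra hne
  have : i ∈ (Finset.univ.filter fun i => c i ≠ 0).erase i₀ := by simp [h1, hne]
  rw [he] at this
  simp [h2, h3] at this

theorem card_isConj_mul (g : G) :
    Nat.card {a : G // IsConj g a} * Nat.card (centralizer ({g} : Set G)) = Nat.card G :=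
  Char.card_conjugates_mul_card_centralizer g

/-- The numerical data. -/
structure Data (G : Type*) [Group G] (x : G) where
  d : ℕ
  s : ℤ
  four_le : 4 ≤ d
  mod_three : d % 3 = 1
  dvd : 3 * (d * (d + 1)) ∣ Nat.card G
  isConj : ∀ t u : G, orderOf t = 2 → orderOf u = 2 → IsConj t u
  s_lt : s < d
  eq : ∀ t : G, orderOf t = 2 →
    3 * (Nat.card (centralizer ({t} : Set G)) : ℤ) ^ 2 * (d * (d + 1)) =
      (Nat.card G : ℤ) * ((d : ℤ) - s) ^ 2
  pairs : ∀ t : G, orderOf t = 2 →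
    (Nat.card {p : G × G // IsConj x p.1 ∧ IsConj x p.2 ∧ p.1 * p.2 = t} : ℤ) * (9 * (d * (d + 1))) =
      (Nat.card G : ℤ) * ((d : ℤ) ^ 2 + 2 * d + 2 * d * s + s)
  bound : ∀ A : Subgroup G, (∀ a ∈ A, a * a = 1) → Invar x A → ¬ 3 ∣ Nat.card A →
    (Nat.card A : ℤ) ≤ d + ((Nat.card A : ℤ) - 1) * s

theorem exists_data [IsSimpleGroup G] (hG : ¬ IsMulCommutative G) {x : G} (hx : SC x) :
    Nonempty (Data G x) := by
  classical
  have := Fintype.ofFinite G
  have := Fintype.ofFinite (IrrCharacter G)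
  have hC : centralizer ({x} : Set G) = zpowers x := le_antisymm
    (fun g hg => hx.cent g (mem_centralizer_singleton_iff.mp hg))
    (zpowers_le.mpr (mem_centralizer_singleton_iff.mpr rfl))
  have hC3 : Nat.card (centralizer ({x} : Set G)) = 3 := by rw [hC, Nat.card_zpowers, hx.ord]
  have hreal := isConj_of_sc hG hx
  have hval : ∀ φ : IrrCharacter G, ∃ (v : ℤ) (n : ℕ), (φ : G → ℂ) x = v ∧ (φ : G → ℂ) 1 = n ∧
      (3 : ℤ) ∣ (n : ℤ) - v :=
    fun φ => exists_int_of_cube (Char.IsIrrCharacter.isCharacter φ.2) hx.cubed hreal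
  choose v deg hv hdeg hmod using hval
  have hsq : ∑ φ, v φ ^ 2 = 3 := by
    have h := Char.column_orth x x
    rw [if_pos (IsConj.refl x), hC3] at h
    have h' : ((∑ φ, v φ ^ 2 : ℤ) : ℂ) = ((3 : ℤ) : ℂ) := by
      push_cast
      rw [show (3 : ℂ) = ((3 : ℕ) : ℂ) by norm_num, ← h]
      exact Finset.sum_congr rfl fun φ _ => by rw [hv φ, map_intCast, pow_two]
    exact_mod_cast h'
  let one : IrrCharacter G := ⟨1, Char.isIrrCharacter_one⟩
  have hv1 : v one = 1 := by
    have h := hv one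
    have h' : (1 : ℂ) = (v one : ℂ) := h
    exact_mod_cast h'.symm
  have hd1 : deg one = 1 := by
    have h := hdeg one
    have h' : (1 : ℂ) = (deg one : ℂ) := h
    exact_mod_cast h'.symm
  obtain ⟨a, b, ha1, hb1, hab, hva, hvb, hrest⟩ := three_support v hsq one hv1
  -- orthogonality with the column of `x`
  have hrel : ∀ g : G, ¬ IsConj g x →
      1 + (v a : ℂ) * (a : G → ℂ) g + (v b : ℂ) * (b : G → ℂ) g = 0 := by
    intro g hg
    have h := Char.column_orth g x
    rw [if_neg hg, ← Finset.sum_subset (Finset.subset_univ ({one, a, b} : Finset (IrrCharacter G)))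
      (fun φ _ hφ => by
        simp only [Finset.mem_insert, Finset.mem_singleton, not_or] at hφ
        rw [hv φ, hrest φ hφ.1 hφ.2.1 hφ.2.2]; simp),
      Finset.sum_insert (by simp [ha1.symm, hb1.symm]), Finset.sum_insert (by simp [hab]),
      Finset.sum_singleton, hv one, hv a, hv b, hv1, map_intCast, map_intCast, map_intCast] at h
    have e1 : (one : G → ℂ) g = 1 := rfl
    rw [e1, Int.cast_one] at h
    linear_combination h
  have h1x : ¬ IsConj (1 : G) x := fun h => hx.ne_one (isConj_one_right.mp h)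
  have hdpos : ∀ φ : IrrCharacter G, 0 < deg φ := fun φ => Nat.pos_of_ne_zero fun h => by
    have := Char.IsIrrCharacter.apply_one_ne_zero φ.2
    rw [hdeg φ, h, Nat.cast_zero] at this
    exact this rfl
  have hdd : 1 + v a * (deg a : ℤ) + v b * (deg b : ℤ) = 0 := by
    have h := hrel 1 h1x
    rw [hdeg a, hdeg b] at h
    exact_mod_cast h
  obtain ⟨χ, ψ, hχ1, hψ1, hχψ, hvχ, hvψ, hrest'⟩ : ∃ χ ψ : IrrCharacter G, χ ≠ one ∧ ψ ≠ one ∧
      χ ≠ ψ ∧ v χ = 1 ∧ v ψ = -1 ∧ ∀ φ, φ ≠ one → φ ≠ χ → φ ≠ ψ → v φ = 0 := by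
    have := hdpos a
    have := hdpos b
    rcases hva with e | e <;> rcases hvb with e' | e'
    · rw [e, e'] at hdd; omega
    · exact ⟨a, b, ha1, hb1, hab, e, e', hrest⟩
    · exact ⟨b, a, hb1, ha1, hab.symm, e', e, fun φ h1 h2 h3 => hrest φ h1 h3 h2⟩
    · rw [e, e'] at hdd; omega
  have hψeq : ∀ g : G, ¬ IsConj g x → (ψ : G → ℂ) g = 1 + (χ : G → ℂ) g := by
    intro g hg
    have h := Char.column_orth g x
    rw [if_neg hg, ← Finset.sum_subset (Finset.subset_univ ({one, χ, ψ} : Finset (IrrCharacter G)))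
      (fun φ _ hφ => by
        simp only [Finset.mem_insert, Finset.mem_singleton, not_or] at hφ
        rw [hv φ, hrest' φ hφ.1 hφ.2.1 hφ.2.2]; simp),
      Finset.sum_insert (by simp [hχ1.symm, hψ1.symm]), Finset.sum_insert (by simp [hχψ]),
      Finset.sum_singleton, hv one, hv χ, hv ψ, hv1, hvχ, hvψ, map_intCast, map_intCast] at h
    have e1 : (one : G → ℂ) g = 1 := rfl
    rw [e1] at h
    push_cast at h
    linear_combination -h
  set d := deg χ with hd
  have hdψ : deg ψ = d + 1 := by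
    have h := hψeq 1 h1x
    rw [hdeg ψ, hdeg χ] at h
    have h' : (deg ψ : ℤ) = 1 + (d : ℤ) := by exact_mod_cast h
    omega
  have hmodχ : d % 3 = 1 := by
    have h := hmod χ
    rw [hvχ] at h
    omega
  have hfour : 4 ≤ d := by
    by_contra hlt
    have hd1' : d = 1 := by omega
    obtain ⟨l, hl⟩ := Char.exists_hom_of_degree_one (Char.IsIrrCharacter.isCharacter χ.2)
      (by rw [hdeg χ, ← hd, hd1', Nat.cast_one])
    have hker : ∀ g h : G, (χ : G → ℂ) (g * h * g⁻¹ * h⁻¹) = 1 := fun g h => by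
      rw [← hl, map_mul, map_mul, map_mul, mul_comm (l g) (l h), mul_assoc (l h) (l g), ← map_mul,
        mul_inv_cancel, map_one, mul_one, ← map_mul, mul_inv_cancel, map_one]
    have hcomm : commutator G = ⊤ :=
      ((Subgroup.commutator_normal ⊤ ⊤).eq_bot_or_eq_top).resolve_left fun hbot =>
        hG ⟨⟨fun g h => commutatorElement_eq_one_iff_mul_comm.mp
          ((Subgroup.eq_bot_iff_forall _).mp hbot _
            (Subgroup.commutator_mem_commutator (mem_top g) (mem_top h)))⟩⟩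
    refine hχ1 (Subtype.ext (funext fun g => ?_))
    show (χ : G → ℂ) g = 1
    have hg : g ∈ commutator G := hcomm ▸ mem_top g
    rw [commutator_eq_closure] at hg
    rw [← hl]
    refine Subgroup.closure_induction (fun z hz => ?_) (map_one l) (fun z w _ _ hz hw => ?_)
      (fun z _ hz => ?_) hg
    · obtain ⟨p, q, rfl⟩ := hz
      rw [hl, commutatorElement_def]; exact hker p q
    · rw [map_mul, hz, hw, one_mul]
    · have : l z * l z⁻¹ = 1 := by rw [← map_mul, mul_inv_cancel, map_one]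
      rwa [hz, one_mul] at this
  -- the sums over the three characters
  have hthree : ∀ F : IrrCharacter G → ℂ, (∀ φ, v φ = 0 → F φ = 0) →
      ∑ φ, F φ = F one + F χ + F ψ := by
    intro F hF
    rw [← Finset.sum_subset (Finset.subset_univ ({one, χ, ψ} : Finset (IrrCharacter G)))
      (fun φ _ hφ => by
        simp only [Finset.mem_insert, Finset.mem_singleton, not_or] at hφ
        exact hF φ (hrest' φ hφ.1 hφ.2.1 hφ.2.2)),
      Finset.sum_insert (by simp [hχ1.symm, hψ1.symm]), Finset.sum_insert (by simp [hχψ]),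
      Finset.sum_singleton, ← add_assoc]
  have hG0 : (Nat.card G : ℂ) ≠ 0 := Nat.cast_ne_zero.mpr Nat.card_pos.ne'
  have hd0 : (d : ℂ) ≠ 0 := Nat.cast_ne_zero.mpr (by omega)
  have hd0' : (d : ℂ) + 1 ≠ 0 := by exact_mod_cast (Nat.succ_ne_zero d)
  have hfaith : ∀ g : G, (χ : G → ℂ) g = d → g = 1 := by
    obtain ⟨n, ρ, hirr, hρ⟩ := χ.2
    have hker : ρ.ker = ⊥ := (MonoidHom.normal_ker ρ).eq_bot_or_eq_top.resolve_right fun htop => by
      have hx1 : ρ x = 1 := by rw [← MonoidHom.mem_ker, htop]; trivial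
      have : ρ.character x = ρ.character 1 := by simp [Representation.character, hx1]
      rw [hρ, hv χ, hvχ, hdeg χ] at this
      have h' : (1 : ℤ) = (deg χ : ℤ) := by exact_mod_cast this
      omega
    intro g hg
    have hn : (Module.finrank ℂ (Fin n → ℂ) : ℂ) = d := by
      rw [← Representation.char_one ρ, hρ, hdeg χ]
    have h1 := (Char.character_eq_finrank_iff ρ g).mp (by rw [hn, ← hg, hρ])
    have : g ∈ ρ.ker := by rw [MonoidHom.mem_ker, h1]; rfl
    rwa [hker, mem_bot] at this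
  have hclass3 : (Nat.card {a : G // IsConj x a} : ℂ) = (Nat.card G : ℂ) / 3 := by
    rw [eq_div_iff (by norm_num), ← card_isConj_mul x, hC3]; push_cast; ring
  have hsval : ∀ t : G, orderOf t = 2 → ∃ s : ℤ, (χ : G → ℂ) t = s ∧ (ψ : G → ℂ) t = 1 + (s : ℂ) := by
    intro t ht
    obtain ⟨s, hs⟩ := exists_int_of_sq (Char.IsIrrCharacter.isCharacter χ.2)
      (show t ^ 2 = 1 by rw [← ht, pow_orderOf_eq_one])
    refine ⟨s, hs, ?_⟩
    rw [hψeq t (fun h => ?_), hs]
    obtain ⟨g, hg⟩ := isConj_iff.mp h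
    have e := hx.ord
    rw [← hg, show g * t * g⁻¹ = MulAut.conj g t from rfl, MulEquiv.orderOf_eq, ht] at e
    omega
  -- the number of ways of writing `x` in a class of involutions
  have hN1 : ∀ t : G, orderOf t = 2 → ∀ s : ℤ, (χ : G → ℂ) t = s → (ψ : G → ℂ) t = 1 + (s : ℂ) →
      (Nat.card {p : G × G // IsConj t p.1 ∧ IsConj t p.2 ∧ p.1 * p.2 = x} : ℂ) *
        ((Nat.card G : ℂ) * ((d : ℂ) * ((d : ℂ) + 1))) =
      (Nat.card {a : G // IsConj t a} : ℂ) ^ 2 * ((d : ℂ) - s) ^ 2 := by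
    intro t ht s hs hs'
    rw [Char.class_mult_formula t t x, hthree _ (fun φ hφ => by rw [hv φ, hφ]; simp),
      hv one, hv χ, hv ψ, hv1, hvχ, hvψ, hdeg one, hdeg χ, hdeg ψ, hd1, hdψ, hs, hs']
    have e1 : (one : G → ℂ) t = 1 := rfl
    rw [e1]
    simp only [Int.cast_one, Int.cast_neg, map_one, map_neg, Nat.cast_one, Nat.cast_add, ← hd]
    field_simp
    ring
  have hinvol : ∀ t : G, orderOf t = 2 → ∀ (u : G), IsConj t u → orderOf u = 2 := fun t ht u hu => by
    obtain ⟨g, rfl⟩ := isConj_iff.mp hu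
    rw [show g * t * g⁻¹ = MulAut.conj g t from rfl, MulEquiv.orderOf_eq, ht]
  have hinvert : ∀ u w : G, orderOf u = 2 → orderOf w = 2 → u * w = x → u * x * u⁻¹ = x⁻¹ := by
    intro u w hu hw he
    have hu2 : u⁻¹ = u := inv_eq_of_mul_eq_one_right (by rw [← pow_two, ← hu, pow_orderOf_eq_one])
    have hw2 : w⁻¹ = w := inv_eq_of_mul_eq_one_right (by rw [← pow_two, ← hw, pow_orderOf_eq_one])
    rw [← he, mul_inv_rev, hw2, hu2]
    have hu1 : u * u = 1 := by rw [← pow_two, ← hu, pow_orderOf_eq_one]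
    rw [← mul_assoc u u w, hu1, one_mul]
  -- every class of involutions has exactly three such pairs
  have hcount : ∀ t : G, orderOf t = 2 →
      Nat.card {p : G × G // IsConj t p.1 ∧ IsConj t p.2 ∧ p.1 * p.2 = x} = 3 ∧
      ∃ u, IsConj t u ∧ u * x * u⁻¹ = x⁻¹ := by
    intro t ht
    obtain ⟨s, hs, hs'⟩ := hsval t ht
    have hne : Nat.card {p : G × G // IsConj t p.1 ∧ IsConj t p.2 ∧ p.1 * p.2 = x} ≠ 0 := by
      intro h0
      have h := hN1 t ht s hs hs'
      rw [h0, Nat.cast_zero, zero_mul] at h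
      have hK : (Nat.card {a : G // IsConj t a} : ℂ) ≠ 0 := by
        have : Nonempty {a : G // IsConj t a} := ⟨⟨t, IsConj.refl t⟩⟩
        exact Nat.cast_ne_zero.mpr Nat.card_pos.ne'
      have hz := (mul_eq_zero.mp h.symm).resolve_left (pow_ne_zero 2 hK)
      rw [sq_eq_zero_iff, sub_eq_zero] at hz
      have : t = 1 := hfaith t (by rw [hs, hz])
      rw [this, orderOf_one] at ht
      omega
    obtain ⟨⟨⟨u, w⟩, hu, hw, huw⟩⟩ := (Nat.card_ne_zero.mp hne).1
    have hinv := hinvert u w (hinvol t ht u hu) (hinvol t ht w hw) huw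
    refine ⟨?_, u, hu, hinv⟩
    have hu2 : u * u = 1 := by rw [← pow_two, ← hinvol t ht u hu, pow_orderOf_eq_one]
    have hui : u⁻¹ = u := inv_eq_of_mul_eq_one_right hu2
    have hcu : ∀ i : ℤ, IsConj t (u * x ^ i) := fun i => by
      refine hu.trans (isConj_iff.mpr ⟨x ^ i, ?_⟩)
      have hxu : ∀ j : ℤ, u * x ^ j * u⁻¹ = x ^ (-j) := fun j => by
        rw [← conj_zpow, hinv, inv_zpow, zpow_neg]
      have h3 : x ^ (3 * i) = 1 := by
        rw [zpow_mul, show ((3 : ℤ)) = ((3 : ℕ) : ℤ) by norm_num, zpow_natCast, hx.cubed, one_zpow]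
      calc x ^ i * u * (x ^ i)⁻¹ = u * (u⁻¹ * x ^ i * (u⁻¹)⁻¹) * x ^ (-i) := by group
        _ = u * x ^ (-i) * x ^ (-i) := by rw [hui, hxu i]
        _ = u * x ^ i := by
          rw [mul_assoc, ← zpow_add]
          congr 1
          calc x ^ (-i + -i) = x ^ (-i + -i) * x ^ (3 * i) := by rw [h3, mul_one]
            _ = x ^ i := by rw [← zpow_add]; congr 1; ring
    let f : zpowers x → {p : G × G // IsConj t p.1 ∧ IsConj t p.2 ∧ p.1 * p.2 = x} := fun q =>
      ⟨(u * (q : G), (q : G)⁻¹ * u⁻¹ * x), by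
        obtain ⟨i, hi⟩ := mem_zpowers_iff.mp q.2
        rw [← hi]; exact hcu i, by
        obtain ⟨i, hi⟩ := mem_zpowers_iff.mp q.2
        have : (q : G)⁻¹ * u⁻¹ * x = u * x ^ (i + 1) := by
          rw [← hi, hui, zpow_add, zpow_one, ← zpow_neg, ← mul_assoc]
          congr 1
          calc x ^ (-i) * u = u * (u⁻¹ * x ^ (-i) * (u⁻¹)⁻¹) := by group
            _ = u * x ^ i := by rw [hui, ← conj_zpow, hinv, inv_zpow, zpow_neg, inv_inv]
        rw [this]; exact hcu _, by group⟩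
    rw [← hx.ord, ← Nat.card_zpowers]
    refine (Nat.card_congr (Equiv.ofBijective f ⟨fun q r h => ?_, fun p => ?_⟩)).symm
    · have := congrArg Prod.fst (congrArg Subtype.val h)
      exact Subtype.ext (mul_left_cancel this)
    · obtain ⟨⟨u', w'⟩, hu', hw', he⟩ := p
      have hinv' := hinvert u' w' (hinvol t ht u' hu') (hinvol t ht w' hw') he
      have hc : Commute (u⁻¹ * u') x := by
        refine mul_inv_eq_iff_eq_mul.mp ?_
        calc u⁻¹ * u' * x * (u⁻¹ * u')⁻¹ = u⁻¹ * (u' * x * u'⁻¹) * (u⁻¹)⁻¹ := by group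
          _ = u * x⁻¹ * u⁻¹ := by rw [hinv', inv_inv, hui]
          _ = x := by rw [← conj_inv, hinv, inv_inv]
      refine ⟨⟨u⁻¹ * u', hx.cent _ hc⟩, Subtype.ext (Prod.ext ?_ ?_)⟩
      · show u * (u⁻¹ * u') = u'
        group
      · show (u⁻¹ * u')⁻¹ * u⁻¹ * x = w'
        rw [← he]; group
  have hone_class : ∀ t u : G, orderOf t = 2 → orderOf u = 2 → IsConj t u := by
    intro t u ht hu
    obtain ⟨-, t', ht', hti⟩ := hcount t ht
    obtain ⟨-, u', hu', hui'⟩ := hcount u hu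
    have ht2 : t'⁻¹ = t' :=
      inv_eq_of_mul_eq_one_right (by rw [← pow_two, ← hinvol t ht t' ht', pow_orderOf_eq_one])
    have hc : Commute (t'⁻¹ * u') x := by
      refine mul_inv_eq_iff_eq_mul.mp ?_
      calc t'⁻¹ * u' * x * (t'⁻¹ * u')⁻¹ = t'⁻¹ * (u' * x * u'⁻¹) * (t'⁻¹)⁻¹ := by group
        _ = t' * x⁻¹ * t'⁻¹ := by rw [hui', inv_inv, ht2]
        _ = x := by rw [← conj_inv, hti, inv_inv]
    obtain ⟨i, hi⟩ := mem_zpowers_iff.mp (hx.cent _ hc)
    refine ht'.trans (IsConj.trans (isConj_iff.mpr ⟨x ^ i, ?_⟩) hu'.symm)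
    have h3 : x ^ (3 * i) = 1 := by
      rw [zpow_mul, show ((3 : ℤ)) = ((3 : ℕ) : ℤ) by norm_num, zpow_natCast, hx.cubed, one_zpow]
    have hxu : t'⁻¹ * x ^ i * (t'⁻¹)⁻¹ = x ^ (-i) := by
      rw [ht2, ← conj_zpow, hti, inv_zpow, zpow_neg]
    calc x ^ i * t' * (x ^ i)⁻¹ = t' * (t'⁻¹ * x ^ i * (t'⁻¹)⁻¹) * x ^ (-i) := by group
      _ = t' * x ^ (-i + -i) := by rw [hxu, mul_assoc, ← zpow_add]
      _ = t' * (x ^ (-i + -i) * x ^ (3 * i)) := by rw [h3, mul_one]
      _ = t' * x ^ i := by rw [← zpow_add]; congr 2; ring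
      _ = u' := by rw [hi]; group
  obtain ⟨t₀, ht₀⟩ : ∃ t : G, orderOf t = 2 := by
    obtain ⟨g, hg⟩ := isConj_iff.mp hreal
    have h2 : Commute (g ^ 2) x := by
      refine mul_inv_eq_iff_eq_mul.mp ?_
      calc g ^ 2 * x * (g ^ 2)⁻¹ = g * (g * x * g⁻¹) * g⁻¹ := by rw [pow_two]; group
        _ = x := by rw [hg, ← conj_inv, hg, inv_inv]
    have heven : 2 ∣ orderOf g := by
      by_contra hodd
      obtain ⟨m, hm⟩ := Nat.odd_iff.mpr (Nat.two_dvd_ne_zero.mp hodd)
      have : g = (g ^ 2) ^ (m + 1) := by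
        rw [← pow_mul, show 2 * (m + 1) = orderOf g + 1 by omega, pow_succ, pow_orderOf_eq_one, one_mul]
      have hc : Commute g x := this ▸ h2.pow_left _
      rw [hc.eq, mul_inv_cancel_right] at hg
      have h1 : x * x = 1 := mul_eq_one_iff_eq_inv.mpr hg
      have := orderOf_dvd_of_pow_eq_one (x := x) (n := 2) (by rw [pow_two, h1])
      rw [hx.ord] at this
      omega
    exact ⟨g ^ (orderOf g / 2), orderOf_pow_orderOf_div (orderOf_pos g).ne' heven⟩
  obtain ⟨s, hs, hs'⟩ := hsval t₀ ht₀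
  have hst : ∀ t : G, orderOf t = 2 → (χ : G → ℂ) t = s ∧ (ψ : G → ℂ) t = 1 + (s : ℂ) := by
    intro t ht
    obtain ⟨g, hg⟩ := isConj_iff.mp (hone_class t₀ t ht₀ ht)
    rw [← hg, Char.IsIrrCharacter.isClassFunction χ.2, Char.IsIrrCharacter.isClassFunction ψ.2]
    exact ⟨hs, hs'⟩
  have hslt : s < d := by
    obtain ⟨n, ρ, hirr, hρ⟩ := χ.2
    have h := Char.norm_character_le ρ t₀
    rw [hρ, hs, Complex.norm_intCast] at h
    have hn : (Module.finrank ℂ (Fin n → ℂ) : ℂ) = (d : ℂ) := by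
      rw [← Representation.char_one ρ, hρ, hdeg χ]
    rw [show Module.finrank ℂ (Fin n → ℂ) = d by exact_mod_cast hn] at h
    have hle : |s| ≤ (d : ℤ) := by exact_mod_cast h
    rcases lt_or_eq_of_le ((abs_le.mp hle).2) with h' | h'
    · exact h'
    · exfalso
      have := hfaith t₀ (by rw [hs, h']; norm_cast)
      rw [this, orderOf_one] at ht₀
      omega
  refine ⟨⟨d, s, hfour, hmodχ, ?_, hone_class, hslt, fun t ht => ?_, fun t ht => ?_, fun A hA2 hAx hA3 => ?_⟩⟩
  · have h1 : d ∣ Nat.card G := by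
      obtain ⟨n, -, hn, hdvd⟩ := Char.IsIrrCharacter.degree_dvd_card χ.2
      rw [hdeg χ] at hn
      rwa [show d = n by exact_mod_cast hn]
    have h2 : d + 1 ∣ Nat.card G := by
      obtain ⟨n, -, hn, hdvd⟩ := Char.IsIrrCharacter.degree_dvd_card ψ.2
      rw [hdeg ψ, hdψ] at hn
      rwa [show d + 1 = n by exact_mod_cast hn]
    have h3 : 3 ∣ Nat.card G := hx.ord ▸ orderOf_dvd_natCard x
    refine Nat.Coprime.mul_dvd_of_dvd_of_dvd ?_ h3 (Nat.Coprime.mul_dvd_of_dvd_of_dvd
      (by simp [Nat.coprime_self_add_right]) h1 h2)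
    rw [Nat.Prime.coprime_iff_not_dvd Nat.prime_three, Nat.Prime.dvd_mul Nat.prime_three]
    omega
  · obtain ⟨h1, h2⟩ := hst t ht
    have h := hN1 t ht s h1 h2
    rw [(hcount t ht).1] at h
    have hK := card_isConj_mul t
    set K := Nat.card {a : G // IsConj t a} with hKdef
    set c := Nat.card (centralizer ({t} : Set G)) with hc
    have hint : ((3 : ℤ) * (c : ℤ) ^ 2 * ((d : ℤ) * ((d : ℤ) + 1)) : ℤ) =
        (Nat.card G : ℤ) * ((d : ℤ) - s) ^ 2 := by
      have hKc : (K : ℂ) * (c : ℂ) = (Nat.card G : ℂ) := by exact_mod_cast hK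
      have : ((3 : ℂ) * (c : ℂ) ^ 2 * ((d : ℂ) * ((d : ℂ) + 1))) * (Nat.card G : ℂ) =
          ((Nat.card G : ℂ) * ((d : ℂ) - s) ^ 2) * (Nat.card G : ℂ) := by
        push_cast at h
        calc _ = (c : ℂ) ^ 2 * (3 * ((Nat.card G : ℂ) * ((d : ℂ) * ((d : ℂ) + 1)))) := by ring
          _ = (c : ℂ) ^ 2 * ((K : ℂ) ^ 2 * ((d : ℂ) - s) ^ 2) := by rw [h]
          _ = ((K : ℂ) * c) * ((K : ℂ) * c) * ((d : ℂ) - s) ^ 2 := by ring
          _ = _ := by rw [hKc]; ring
      exact_mod_cast mul_right_cancel₀ hG0 this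
    exact hint
  · obtain ⟨h1, h2⟩ := hst t ht
    have h : (Nat.card {p : G × G // IsConj x p.1 ∧ IsConj x p.2 ∧ p.1 * p.2 = t} : ℂ) *
        (9 * ((d : ℂ) * ((d : ℂ) + 1))) =
        (Nat.card G : ℂ) * ((d : ℂ) ^ 2 + 2 * d + 2 * d * s + s) := by
      rw [Char.class_mult_formula x x t, hthree _ (fun φ hφ => by rw [hv φ, hφ]; simp),
        hv one, hv χ, hv ψ, hv1, hvχ, hvψ, hdeg one, hdeg χ, hdeg ψ, hd1, hdψ, h1, h2, hclass3]
      have e1 : (one : G → ℂ) t = 1 := rfl
      rw [e1]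
      simp only [Int.cast_one, Int.cast_neg, map_one, map_add, map_intCast, Nat.cast_one,
        Nat.cast_add, ← hd]
      field_simp
      ring
    exact_mod_cast h
  · have hXA : zpowers x ≤ normalizer (A : Set G) := zpowers_le.mpr (mem_normalizer_iff.mpr
      fun g => ⟨fun hg => hAx g hg, fun hg => hx.mem_of_conj_mem hAx hg⟩)
    set H := zpowers x ⊔ A with hH
    have hHset : (H : Set G) = (zpowers x : Set G) * (A : Set G) :=
      coe_mul_of_left_le_normalizer_right _ _ hXA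
    have hinj : ∀ (q r : zpowers x) (e f : A), (q : G) * e = r * f → q = r ∧ e = f := by
      intro q r e f h
      have hq : (r : G)⁻¹ * q = f * (e : G)⁻¹ := by
        calc (r : G)⁻¹ * q = (r : G)⁻¹ * (q * e) * (e : G)⁻¹ := by group
          _ = (r : G)⁻¹ * (r * f) * (e : G)⁻¹ := by rw [h]
          _ = _ := by group
      have hmem : (r : G)⁻¹ * q ∈ zpowers x := (zpowers x).mul_mem ((zpowers x).inv_mem r.2) q.2
      have h1 : (r : G)⁻¹ * q = 1 := hx.eq_one_of_commute hA3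
        (hq ▸ A.mul_mem f.2 (A.inv_mem e.2)) (by
          obtain ⟨i, hi⟩ := mem_zpowers_iff.mp hmem
          rw [← hi]; exact (Commute.refl x).zpow_left i)
      have h2 : (q : G) = r := (inv_mul_eq_one.mp h1).symm
      refine ⟨Subtype.ext h2, Subtype.ext ?_⟩
      rw [h2] at h
      exact mul_left_cancel h
    let F : zpowers x × A → H := fun p => ⟨(p.1 : G) * p.2, H.mul_mem
      (le_sup_left (b := A) p.1.2) (le_sup_right (a := zpowers x) p.2.2)⟩
    have hF : Function.Bijective F := ⟨fun p q h => by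
      obtain ⟨h1, h2⟩ := hinj _ _ _ _ (congrArg Subtype.val h)
      exact Prod.ext h1 h2, fun g => by
      have hg : (g : G) ∈ (zpowers x : Set G) * (A : Set G) := hHset ▸ g.2
      obtain ⟨q, hq, e, he, hqe⟩ := hg
      exact ⟨(⟨q, hq⟩, ⟨e, he⟩), Subtype.ext hqe⟩⟩
    have := Fintype.ofFinite H
    obtain ⟨m, hm⟩ := Char.IsCharacter.classInner_nat
      (Char.IsCharacter.restrict (Char.IsIrrCharacter.isCharacter ψ.2) H) (Char.isCharacter_one (G := H))
    have hsum : ∑ g : H, (ψ : G → ℂ) g = (Nat.card H : ℂ) * m := by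
      rw [← hm, Char.card_mul_classInner]
      simp
    have hsplit : ∑ g : H, (ψ : G → ℂ) g = ∑ q : zpowers x, ∑ e : A, (ψ : G → ℂ) ((q : G) * e) := by
      rw [← (Equiv.ofBijective F hF).sum_comp (fun g : H => (ψ : G → ℂ) g), Fintype.sum_prod_type]
      rfl
    have hA1 : ∑ e : A, (ψ : G → ℂ) (e : G) = ((d : ℂ) + 1) + ((Nat.card A : ℂ) - 1) * (1 + s) := by
      rw [← Finset.add_sum_erase _ _ (Finset.mem_univ (1 : A)), Finset.sum_congr rfl
        (g := fun _ => (1 : ℂ) + s) (fun e he => ?_), Finset.sum_const,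
        Finset.card_erase_of_mem (Finset.mem_univ _), Finset.card_univ, ← Nat.card_eq_fintype_card,
        nsmul_eq_mul, Nat.cast_sub Nat.card_pos, Nat.cast_one, OneMemClass.coe_one, hdeg ψ, hdψ,
        Nat.cast_add, Nat.cast_one]
      refine (hst _ ?_).2
      refine orderOf_eq_prime (p := 2) (hp := ⟨Nat.prime_two⟩) (by rw [pow_two]; exact hA2 _ e.2) ?_
      exact fun h => (Finset.mem_erase.mp he).1 (Subtype.ext h)
    have hAq : ∀ q : zpowers x, q ≠ 1 → ∑ e : A, (ψ : G → ℂ) ((q : G) * e) = -(Nat.card A : ℂ) := by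
      intro q hq
      have hqconj : (q : G) = x ∨ (q : G) = x⁻¹ := by
        obtain ⟨i, hi⟩ := mem_zpowers_iff.mp q.2
        rw [← zpow_mod_orderOf, hx.ord] at hi
        have h3 : i % ((3 : ℕ) : ℤ) = 0 ∨ i % ((3 : ℕ) : ℤ) = 1 ∨ i % ((3 : ℕ) : ℤ) = 2 := by omega
        rcases h3 with e | e | e <;> rw [e] at hi
        · exact absurd (Subtype.ext (hi.symm.trans (zpow_zero x))) hq
        · exact Or.inl (hi.symm.trans (zpow_one x))
        · exact Or.inr (hi.symm.trans (by rw [hx.inv_eq, zpow_two]))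
      have hval : ∀ e : A, (ψ : G → ℂ) ((q : G) * e) = -1 := by
        intro e
        have hqsc : SC (q : G) ∧ Invar (q : G) A ∧ IsConj x (q : G) := by
          rcases hqconj with h | h <;> rw [h]
          · exact ⟨hx, hAx, IsConj.refl x⟩
          · exact ⟨hx.symm, hx.invar_symm hAx, hreal⟩
        obtain ⟨hq1, hq2, hq3⟩ := hqsc
        obtain ⟨g, -, hg⟩ := hq1.exists_conj_eq hA3 hq2 (hq2 _ e.2)
        rw [show (q : G) * e * (q : G)⁻¹ * q = q * e by group] at hg
        rw [← hg, Char.IsIrrCharacter.isClassFunction ψ.2]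
        obtain ⟨k, hk⟩ := isConj_iff.mp hq3
        rw [← hk, Char.IsIrrCharacter.isClassFunction ψ.2, hv ψ, hvψ]
        norm_num
      rw [Finset.sum_congr rfl fun e _ => hval e, Finset.sum_const, Finset.card_univ,
        ← Nat.card_eq_fintype_card, nsmul_eq_mul, mul_neg, mul_one]
    have htot : ∑ q : zpowers x, ∑ e : A, (ψ : G → ℂ) ((q : G) * e) =
        ((d : ℂ) + 1) + ((Nat.card A : ℂ) - 1) * (1 + s) + 2 * -(Nat.card A : ℂ) := by
      rw [← Finset.add_sum_erase _ _ (Finset.mem_univ (1 : zpowers x)),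
        Finset.sum_congr rfl (g := fun _ => -(Nat.card A : ℂ))
          (fun q hq => hAq q (Finset.mem_erase.mp hq).1),
        Finset.sum_const, Finset.card_erase_of_mem (Finset.mem_univ _), Finset.card_univ,
        ← Nat.card_eq_fintype_card, Nat.card_zpowers, hx.ord, nsmul_eq_mul]
      simp only [OneMemClass.coe_one, one_mul, hA1]
      norm_num
    have hfin : ((Nat.card H * m : ℕ) : ℤ) =
        ((d : ℤ) + 1) + ((Nat.card A : ℤ) - 1) * (1 + s) + 2 * -(Nat.card A : ℤ) := by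
      have : ((Nat.card H : ℂ) * m) = ((d : ℂ) + 1) + ((Nat.card A : ℂ) - 1) * (1 + s) +
          2 * -(Nat.card A : ℂ) := by rw [← hsum, hsplit, htot]
      exact_mod_cast this
    have h0 : (0 : ℤ) ≤ ((Nat.card H * m : ℕ) : ℤ) := Int.natCast_nonneg _
    rw [hfin] at h0
    nlinarith [h0]

end Cfsg.Agent.SelfCentThree
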