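import Cfsg.Agent.Lib.SelfCentThree.Main
import Cfsg.Agent.Lib.FPF.Kernel
import Cfsg.Agent.Lib.SL2Module.Group
import Cfsg.Agent.Lib.Cores.Fitting
import Cfsg.Agent.Lib.SelfCentPrime.Derived
import Cfsg.Agent.Lib.SmallOrders.Basic

/-!
# Reduction to simple groups

* `SC.quotient` : self-centralization passes to quotients by normal subgroups of order prime to 3
* `core_nilpotent` : a normal subgroup of order prime to 3 is nilpotent
* `not_dvd_core` : a prime dividing the order of the core divides every invariant subgroup of the quotient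
* `exists_four_simple`, `exists_seven` : invariant subgroups of the simple quotient
-/

set_option autoImplicit false
set_option linter.unusedSectionVars false

namespace Cfsg.Agent.SelfCentThree

open Subgroup

variable {G : Type*} [Group G] [Finite G]

theorem centralizer_eq_zpowers {x : G} (hx : SC x) : centralizer ({x} : Set G) = zpowers x :=
  le_antisymm (fun g hg => hx.cent g (mem_centralizer_singleton_iff.mp hg))
    (zpowers_le.mpr (mem_centralizer_singleton_iff.mpr rfl))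

theorem invar_of_normal (x : G) (O : Subgroup G) [hO : O.Normal] : Invar x O :=
  fun g hg => hO.conj_mem g hg x

theorem SC.quotient {x : G} (hx : SC x) {O : Subgroup G} [O.Normal] (h3 : ¬ 3 ∣ Nat.card O) :
    SC (x : G ⧸ O) where
  ord := by
    refine orderOf_eq_prime (hp := ⟨Nat.prime_three⟩) ?_ fun h => hx.not_mem h3 ((QuotientGroup.eq_one_iff x).mp h)
    rw [← QuotientGroup.mk_pow, hx.cubed, QuotientGroup.mk_one]
  cent := fun q hq => by
    induction q using QuotientGroup.induction_on with | H g => ?_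
    have hmem : g * x * g⁻¹ * x⁻¹ ∈ O := by
      rw [← QuotientGroup.eq_one_iff, QuotientGroup.mk_mul, QuotientGroup.mk_mul, QuotientGroup.mk_mul,
        QuotientGroup.mk_inv, QuotientGroup.mk_inv, hq.eq, mul_inv_cancel_right, mul_inv_cancel]
    obtain ⟨h, hh, he⟩ := hx.exists_conj_eq h3 (invar_of_normal x O) hmem
    have hc : Commute (h⁻¹ * g) x := by
      show h⁻¹ * g * x = x * (h⁻¹ * g)
      calc h⁻¹ * g * x = h⁻¹ * (g * x * g⁻¹ * x⁻¹ * x) * g := by group
        _ = h⁻¹ * (h * x * h⁻¹) * g := by rw [he]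
        _ = _ := by group
    obtain ⟨i, hi⟩ := mem_zpowers_iff.mp (hx.cent _ hc)
    refine mem_zpowers_iff.mpr ⟨i, ?_⟩
    rw [← QuotientGroup.mk_zpow, hi, QuotientGroup.mk_mul, QuotientGroup.mk_inv,
      (QuotientGroup.eq_one_iff h).mpr hh, inv_one, one_mul]

theorem exists_lift {x : G} (hx : SC x) {O : Subgroup G} [O.Normal] (h3 : ¬ 3 ∣ Nat.card O)
    {y : G ⧸ O} (hy : orderOf y = 3) : ∃ z : G, SC z ∧ (z : G ⧸ O) = y := by
  have hq := hx.quotient h3
  obtain ⟨c, hc⟩ := SelfCentPrime.zpowers_eq_of_card Nat.prime_three hq.ord (centralizer_eq_zpowers hq)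
    (H := zpowers y) (by rw [Nat.card_zpowers, hy])
  obtain ⟨u, hu, huy⟩ : y ∈ (zpowers (x : G ⧸ O)).map (MulAut.conj c).toMonoidHom := hc ▸ mem_zpowers y
  have huy' : c * u * c⁻¹ = y := huy
  obtain ⟨i, hi⟩ := mem_zpowers_iff.mp hu
  obtain ⟨g, rfl⟩ := QuotientGroup.mk_surjective c
  subst hi
  refine ⟨g * x ^ i * g⁻¹, (sc_of_order_three hx ?_).1, by simpa using huy'⟩
  refine orderOf_eq_prime (hp := ⟨Nat.prime_three⟩) ?_ fun h => ?_
  · rw [conj_pow, ← zpow_natCast, ← zpow_mul, mul_comm, zpow_mul, zpow_natCast, hx.cubed, one_zpow,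
      mul_one, mul_inv_cancel]
  · have e : ((g * x ^ i * g⁻¹ : G) : G ⧸ O) = y := by simpa using huy'
    rw [h, QuotientGroup.mk_one] at e
    rw [← e, orderOf_one] at hy
    omega

theorem core_nilpotent {x : G} (hx : SC x) (O : Subgroup G) [O.Normal] (h3 : ¬ 3 ∣ Nat.card O) :
    Group.IsNilpotent O := by
  refine FPF.isNilpotent_of_fpf_subgroup (A := zpowers x) ?_ ?_
  · exact fun h => hx.ne_one (by rw [← mem_bot, ← h]; exact mem_zpowers x)
  · intro a ha ha1 k hk hc
    refine hx.eq_one_of_commute h3 hk ?_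
    have ho : orderOf a = 3 := (SelfCentPrime.orderOf_eq_iff_mem Nat.prime_three hx.ord
      (centralizer_eq_zpowers hx) ha).mpr ha1
    have hxa : x ∈ zpowers a :=
      SelfCentPrime.exists_pow_eq_of_ne_one Nat.prime_three hx.ord (centralizer_eq_zpowers hx) ha ha1
    obtain ⟨i, hi⟩ := mem_zpowers_iff.mp hxa
    rw [← hi]
    have hc' : Commute a k := hc
    exact hc'.symm.zpow_right i

/-- A prime not dividing the order of an invariant subgroup of the simple quotient is prime to the core. -/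
theorem not_dvd_core {x : G} (hx : SC x) {O : Subgroup G} [O.Normal] (h3 : ¬ 3 ∣ Nat.card O)
    [IsSimpleGroup (G ⧸ O)] {y : G ⧸ O} (hy : orderOf y = 3) {R : Subgroup (G ⧸ O)} (hR : R ≠ ⊥)
    (hinv : Invar y R) (hR3 : ¬ 3 ∣ Nat.card R) {p : ℕ} (hp : p.Prime) (hpR : ¬ p ∣ Nat.card R) :
    ¬ p ∣ Nat.card O := by
  intro hpO
  have := Fact.mk hp
  have := core_nilpotent hx O h3
  obtain ⟨P⟩ := (inferInstance : Nonempty (Sylow p O))
  have hPn : (P : Subgroup O).Normal := inferInstance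
  have hPne : (P : Subgroup O) ≠ ⊥ := P.ne_bot_of_dvd_card hpO
  obtain ⟨z, ⟨hzP, hzc⟩, hz1⟩ : ∃ z ∈ (P : Subgroup O) ⊓ center O, z ≠ 1 := by
    by_contra h
    push Not at h
    exact Cores.inf_center_ne_bot (P : Subgroup O) hPne ((eq_bot_iff_forall _).mpr h)
  obtain ⟨k, hk⟩ := P.isPGroup' ⟨z, hzP⟩
  have hk' : z ^ p ^ k = 1 := congrArg Subtype.val hk
  have hpz : p ∣ orderOf z := by
    obtain ⟨j, -, hj⟩ := (Nat.dvd_prime_pow hp).mp (orderOf_dvd_of_pow_eq_one hk')
    rcases j with _ | j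
    · exact absurd (orderOf_eq_one_iff.mp (by simpa using hj)) hz1
    · exact ⟨p ^ j, by rw [hj, pow_succ']⟩
  set w := z ^ (orderOf z / p) with hw
  have hwo : orderOf w = p := orderOf_pow_orderOf_div (orderOf_pos z).ne' hpz
  have hwc : w ∈ center O := (center O).pow_mem hzc _
  let M : Subgroup G :=
    { carrier := {m | m ∈ O ∧ (∀ o ∈ O, m * o = o * m) ∧ m ^ p = 1}
      one_mem' := ⟨O.one_mem, fun o _ => by simp, one_pow p⟩
      mul_mem' := fun {a b} ha hb => ⟨O.mul_mem ha.1 hb.1,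
        fun o ho => ((Commute.mul_left (ha.2.1 o ho) (hb.2.1 o ho))).eq,
        by rw [Commute.mul_pow (ha.2.1 b hb.1), ha.2.2, hb.2.2, one_mul]⟩
      inv_mem' := fun {a} ha => ⟨O.inv_mem ha.1, fun o ho => (Commute.inv_left (ha.2.1 o ho)).eq,
        by rw [inv_pow, ha.2.2, inv_one]⟩ }
  have hMn : M.Normal := by
    refine ⟨fun m hm g => ⟨(inferInstance : O.Normal).conj_mem m hm.1 g, fun o ho => ?_, ?_⟩⟩
    · have h := hm.2.1 (g⁻¹ * o * g) (by
        simpa using (inferInstance : O.Normal).conj_mem o ho g⁻¹)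
      calc g * m * g⁻¹ * o = g * (m * (g⁻¹ * o * g)) * g⁻¹ := by group
        _ = g * (g⁻¹ * o * g * m) * g⁻¹ := by rw [h]
        _ = _ := by group
    · rw [conj_pow, hm.2.2, mul_one, mul_inv_cancel]
  have hwM : (w : G) ∈ M := ⟨w.2, fun o ho => (congrArg Subtype.val (mem_center_iff.mp hwc ⟨o, ho⟩)).symm, by
    rw [← hwo, ← Subgroup.orderOf_coe, pow_orderOf_eq_one]⟩
  have hOM : O ≤ centralizer (M : Set G) := fun o ho m hm => hm.2.1 o ho
  letI := SL2Module.commGroupOf M fun a ha b hb => ha.2.1 b hb.1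
  let φ : G ⧸ O →* MulAut M := SL2Module.quotAct O M hOM
  have hφ : ∀ (g : G) (m : M), ((φ (g : G ⧸ O) m : M) : G) = g * m * g⁻¹ :=
    fun g m => SL2Module.quotAct_mk O M hOM g m
  obtain ⟨y', hy', rfl⟩ := exists_lift hx h3 hy
  have hyq := hy'.quotient h3
  have hfix : ∀ m : M, φ (y' : G ⧸ O) m = m → m = 1 := fun m hm => by
    have h := congrArg Subtype.val hm
    rw [hφ] at h
    exact Subtype.ext (hy'.eq_one_of_commute h3 m.2.1 (mul_inv_eq_iff_eq_mul.mp h).symm)
  have hxE : ∀ m : M, m * φ (y' : G ⧸ O) m * φ ((y' : G ⧸ O) * y') m = 1 := fun m => hfix _ (by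
    have e3 : φ (y' : G ⧸ O) (φ (y' : G ⧸ O) (φ (y' : G ⧸ O) m)) = m := by
      rw [← MulAut.mul_apply, ← MulAut.mul_apply, ← map_mul, ← map_mul, ← pow_three', hyq.cubed, map_one,
        MulAut.one_apply]
    simp only [map_mul, MulAut.mul_apply]
    rw [e3, mul_comm _ m, mul_assoc])
  have hcop : (Nat.card R).Coprime p := (hp.coprime_iff_not_dvd.mpr hpR).symm
  have hker : R ≤ φ.ker := fun r hr => by
    refine MonoidHom.mem_ker.mpr (MulEquiv.ext fun m => ?_)
    obtain ⟨n, hn⟩ : ∃ n, m = (m ^ Nat.card R) ^ n := by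
      have hm : m ^ p = 1 := Subtype.ext (by rw [SubgroupClass.coe_pow]; exact m.2.2.2)
      obtain ⟨n, hn⟩ := exists_pow_eq_self_of_coprime
        (hcop.coprime_dvd_right (orderOf_dvd_of_pow_eq_one hm))
      exact ⟨n, hn.symm⟩
    rw [hn, map_pow, pow_card_fixed φ hyq.cubed R hinv
      (fun k hk hc => hyq.eq_one_of_commute hR3 hk hc) hxE m r hr, MulAut.one_apply]
  have htop : φ.ker = ⊤ := (φ.normal_ker.eq_bot_or_eq_top).resolve_left fun h =>
    hR (le_bot_iff.mp (h ▸ hker))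
  have : (⟨(w : G), hwM⟩ : M) = 1 := hfix _ (by
    rw [MonoidHom.mem_ker.mp (htop ▸ mem_top (y' : G ⧸ O)), MulAut.one_apply])
  have e : w = 1 := Subtype.ext (congrArg (Subtype.val : M → G) this)
  rw [e, orderOf_one] at hwo
  exact hp.one_lt.ne hwo

/-- A simple group with a self-centralizing element of order 3 has an invariant four-group. -/
theorem exists_four_simple {Q : Type*} [Group Q] [Finite Q] [IsSimpleGroup Q] (hna : ¬ IsMulCommutative Q)
    {x : Q} (hx : SC x) : ∃ (y : Q) (A : Subgroup Q), orderOf y = 3 ∧ Invar y A ∧ A ≠ ⊥ ∧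
      IsPGroup 2 A := by
  obtain ⟨D₀⟩ := exists_data hna hx
  have hG : Hyp Q := ⟨fun y hy => (sc_of_order_three hx hy).1, D₀.isConj⟩
  obtain ⟨t, ht⟩ : ∃ t : Q, orderOf t = 2 := by
    have : Fact (Nat.Prime 2) := ⟨Nat.prime_two⟩
    refine exists_prime_orderOf_dvd_card' (G := Q) 2 (dvd_trans ?_ D₀.dvd)
    exact dvd_mul_of_dvd_right (Nat.even_mul_succ_self D₀.d).two_dvd 3
  have hpos : Nat.card (Pair t) ≠ 0 := by
    intro h0
    have h := D₀.pairs t ht
    rw [← card_pair_eq hx (isConj_of_sc hna hx), h0, Nat.cast_zero, zero_mul] at h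
    have hq0 := (mul_eq_zero.mp h.symm).resolve_left (by exact_mod_cast Nat.card_pos.ne')
    have hd4 : (4 : ℤ) ≤ D₀.d := by exact_mod_cast D₀.four_le
    have h3 : (2 * (D₀.d : ℤ) + 1) ∣ 3 :=
      ⟨2 * (D₀.d : ℤ) + 3 + 4 * D₀.s, by linear_combination (-4) * hq0⟩
    have := Int.le_of_dvd (by norm_num) h3
    omega
  obtain ⟨p⟩ := (Nat.card_ne_zero.mp hpos).1
  have hy := cyc_of_pair hG ht p
  obtain ⟨A, -, hA2, hAinv, hA4⟩ := exists_four hG ht hy
  exact ⟨_, A, hy.ord, hAinv, fun h => by rw [h, card_bot] at hA4; omega,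
    fun u => ⟨1, Subtype.ext (by rw [pow_one, SubgroupClass.coe_pow, pow_two]; exact hA2 _ u.2)⟩⟩

/-- A simple group of order 168 has an invariant subgroup of order 7. -/
theorem exists_seven {Q : Type*} [Group Q] [Finite Q] [IsSimpleGroup Q] (h : Nat.card Q = 168) :
    ∃ (y : Q) (R : Subgroup Q), orderOf y = 3 ∧ Invar y R ∧ Nat.card R = 7 := by
  have : Fact (Nat.Prime 7) := ⟨by norm_num⟩
  have : Fact (Nat.Prime 3) := ⟨Nat.prime_three⟩
  obtain ⟨P⟩ := (inferInstance : Nonempty (Sylow 7 Q))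
  have hP : Nat.card (P : Subgroup Q) = 7 := by
    rw [SmallOrders.card_sylow_subgroup (e := 1) (m := 24) (by rw [h]; norm_num) (by norm_num) P, pow_one]
  have hne1 : Nat.card (Sylow 7 Q) ≠ 1 := fun e => by
    have : Subsingleton (Sylow 7 Q) := (Nat.card_eq_one_iff_unique.mp e).1
    rcases P.normal_of_subsingleton.eq_bot_or_eq_top with e | e
    · rw [e, card_bot] at hP; omega
    · rw [e, card_top, h] at hP; omega
  have hidx : (P : Subgroup Q).index = 24 := by
    have := (P : Subgroup Q).card_mul_index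
    rw [hP, h] at this
    omega
  have hd := hidx ▸ P.card_dvd_index
  have hm := card_sylow_modEq_one 7 Q
  have h8 : Nat.card (Sylow 7 Q) = 8 := by
    have hle := Nat.le_of_dvd (by norm_num) hd
    interval_cases hn : Nat.card (Sylow 7 Q) <;> simp_all [Nat.ModEq]
  have hN := (normalizer ((P : Subgroup Q) : Set Q)).card_mul_index
  have e8 : (normalizer ((P : Subgroup Q) : Set Q)).index = 8 := P.card_eq_index_normalizer.symm.trans h8
  rw [e8, h] at hN
  obtain ⟨y, hy⟩ := exists_prime_orderOf_dvd_card' (G := normalizer ((P : Subgroup Q) : Set Q)) 3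
    (by omega)
  exact ⟨y, P, by rw [Subgroup.orderOf_coe, hy], fun g hg => (mem_normalizer_iff.mp y.2 g).mp hg, hP⟩

end Cfsg.Agent.SelfCentThree
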