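import Cfsg.Agent.EqLemmas

/-!
# Groups with a self-centralizing element of order three acting on an elementary abelian 2-group

* `pow_card_fixed`, `pow_card_eq_one` : the trick: if the sum over `⟨x⟩` kills `E` and `K` has no fixed point then
  `e ^ |K| = 1`
* `exists_complement` : the normal 3-complement in odd order
* `card_eq_three` : semiregular odd case;  `eq_of_commute` : the case of a Sylow 2-subgroup of order 2
-/

set_option autoImplicit false

namespace Cfsg.Agent.SelfCentThree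

open Subgroup

variable {H E : Type*} [Group H] [Finite H] [CommGroup E] [Finite E] (φ : H →* MulAut E)

theorem pow_card_fixed {x : H} (hx : x ^ 3 = 1) (K : Subgroup H) (hK : ∀ k ∈ K, x * k * x⁻¹ ∈ K)
    (hfpf : ∀ k ∈ K, Commute k x → k = 1) (hxE : ∀ e, e * φ x e * φ (x * x) e = 1)
    (e : E) : ∀ j ∈ K, φ j (e ^ Nat.card K) = e ^ Nat.card K := by
  classical
  have := Fintype.ofFinite K
  let T : E → E := fun e' => ∏ k : K, φ (k : H) e'
  have hfix : ∀ e', ∀ j ∈ K, φ j (T e') = T e' := fun e' j hj => by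
    simp only [T, map_prod]
    refine Fintype.prod_equiv (Equiv.mulLeft (⟨j, hj⟩ : K)) _ _ fun k => ?_
    simp
  have key : ∀ (z : H) (_ : ∀ k ∈ K, z * k * z⁻¹ ∈ K) (_ : ∀ k ∈ K, Commute k z → k = 1) (e' : E),
      ∏ k : K, φ ((k : H) * z * (k : H)⁻¹) e' = T (φ z e') := by
    intro z hz hzf e'
    let f : K → K := fun k => ⟨(k : H) * (z * (k : H)⁻¹ * z⁻¹), K.mul_mem k.2 (hz _ (K.inv_mem k.2))⟩
    have hf : Function.Injective f := fun a b h => by
      have h' : (a : H) * (z * (a : H)⁻¹ * z⁻¹) = b * (z * (b : H)⁻¹ * z⁻¹) := congrArg Subtype.val h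
      refine Subtype.ext (inv_mul_eq_one.mp (hzf _ (K.mul_mem (K.inv_mem b.2) a.2) ?_)).symm
      show (b : H)⁻¹ * a * z = z * ((b : H)⁻¹ * a)
      calc (b : H)⁻¹ * a * z = (b : H)⁻¹ * (a * (z * (a : H)⁻¹ * z⁻¹)) * (z * a) := by group
        _ = (b : H)⁻¹ * (b * (z * (b : H)⁻¹ * z⁻¹)) * (z * a) := by rw [h']
        _ = _ := by group
    refine Fintype.prod_bijective f (Finite.injective_iff_bijective.mp hf) _ _ fun k => ?_
    rw [← MulAut.mul_apply, ← map_mul]
    congr 2
    simp only [f]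
    group
  have hrel : ∀ k : K, e * φ ((k : H) * x * (k : H)⁻¹) e * φ ((k : H) * (x * x) * (k : H)⁻¹) e = 1 := by
    intro k
    have h := congrArg (φ (k : H)) (hxE (φ (k : H)⁻¹ e))
    simp only [map_mul, map_one, map_inv, MulAut.mul_apply, MulAut.apply_inv_self] at h ⊢
    exact h
  have h1 : ∏ k : K, e * φ ((k : H) * x * (k : H)⁻¹) e * φ ((k : H) * (x * x) * (k : H)⁻¹) e = 1 :=
    Finset.prod_eq_one fun k _ => hrel k
  rw [Finset.prod_mul_distrib, Finset.prod_mul_distrib, key x hK hfpf e,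
    key (x * x) (fun k hk => by
      have := hK _ (hK k hk)
      rwa [show x * x * k * (x * x)⁻¹ = x * (x * k * x⁻¹) * x⁻¹ by group]) (fun k hk hc => hfpf k hk (by
        have hxx : x = (x * x) * (x * x) := by
          calc x = x ^ 3 * x := by rw [hx, one_mul]
            _ = _ := by simp only [pow_three, mul_assoc]
        rw [hxx]; exact hc.mul_right hc)) e, Finset.prod_const, Finset.card_univ,
    ← Nat.card_eq_fintype_card, mul_assoc] at h1
  intro j hj
  rw [eq_inv_of_mul_eq_one_left h1, map_inv, map_mul, hfix _ j hj, hfix _ j hj]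

theorem pow_card_eq_one {x : H} (hx : x ^ 3 = 1) (K : Subgroup H) (hK : ∀ k ∈ K, x * k * x⁻¹ ∈ K)
    (hfpf : ∀ k ∈ K, Commute k x → k = 1) (hxE : ∀ e, e * φ x e * φ (x * x) e = 1)
    (hKE : ∀ e, (∀ k ∈ K, φ k e = e) → e = 1) (e : E) : e ^ Nat.card K = 1 :=
  hKE _ (pow_card_fixed φ hx K hK hfpf hxE e)

omit φ in
/-- In a group of odd order with a self-centralizing element of order 3, the elements of order prime
to 3 form a normal subgroup of index 3. -/
theorem exists_complement (hodd : Odd (Nat.card H)) {x : H} (hx : orderOf x = 3)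
    (hcent : ∀ h, Commute h x → h ∈ zpowers x) :
    ∃ K : Subgroup H, (∀ h, h ∈ K ↔ ¬ 3 ∣ orderOf h) ∧ Nat.card H = 3 * Nat.card K := by
  have : Fact (Nat.Prime 3) := ⟨Nat.prime_three⟩
  have hX : Nat.card (zpowers x) = 3 := by rw [Nat.card_zpowers, hx]
  obtain ⟨P, hP⟩ := (IsPGroup.of_card (n := 1) (by rw [hX, pow_one]) :
    IsPGroup 3 (zpowers x)).exists_le_sylow
  have hPx : (P : Subgroup H) = zpowers x := by
    refine le_antisymm ?_ hP
    have hxP : x ∈ (P : Subgroup H) := hP (mem_zpowers x)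
    have hne : Nontrivial (P : Subgroup H) :=
      ⟨⟨x, hxP⟩, 1, fun h => by
        rw [show x = 1 from congrArg Subtype.val h, orderOf_one] at hx; omega⟩
    obtain ⟨z, hz⟩ := @exists_ne _ P.isPGroup'.center_nontrivial (1 : center (P : Subgroup H))
    have hzc : ∀ s ∈ (P : Subgroup H), s * ((z : (P : Subgroup H)) : H) = ((z : (P : Subgroup H)) : H) * s :=
      fun s hs => congrArg Subtype.val (mem_center_iff.mp z.2 ⟨s, hs⟩)
    have hzx : ((z : (P : Subgroup H)) : H) ∈ zpowers x := hcent _ (hzc x hxP).symm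
    have hgen : zpowers ((z : (P : Subgroup H)) : H) = zpowers x := by
      refine eq_of_le_of_card_ge (zpowers_le.mpr hzx) ?_
      rw [hX, Nat.card_zpowers]
      have hd := orderOf_dvd_of_mem_zpowers hzx
      rw [hx] at hd
      rcases (Nat.dvd_prime Nat.prime_three).mp hd with h | h
      · exact absurd (Subtype.ext (Subtype.ext (orderOf_eq_one_iff.mp h))) hz
      · exact h.ge
    intro s hs
    obtain ⟨i, hi⟩ := mem_zpowers_iff.mp (hgen ▸ mem_zpowers x : x ∈ zpowers ((z : (P : Subgroup H)) : H))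
    exact hcent s (hi ▸ (show Commute s _ from hzc s hs).zpow_right i)
  have hNC : normalizer (P : Set H) ≤ centralizer (P : Set H) := by
    intro n hn
    have hn' : n ∈ normalizer ((P : Subgroup H) : Set H) := hn
    rw [hPx] at hn'
    have hmem := (mem_normalizer_iff.mp hn' x).mp (mem_zpowers x)
    have hc : Commute n x := by
      have hcases : n * x * n⁻¹ = 1 ∨ n * x * n⁻¹ = x ∨ n * x * n⁻¹ = x ^ 2 := by
        obtain ⟨i, hi⟩ := mem_zpowers_iff.mp hmem
        rw [← hi, ← zpow_mod_orderOf, hx]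
        have h1 := Int.emod_nonneg i (show ((3 : ℕ) : ℤ) ≠ 0 by norm_num)
        have h2 := Int.emod_lt_of_pos i (show (0 : ℤ) < (3 : ℕ) by norm_num)
        have h3 : i % ((3 : ℕ) : ℤ) = 0 ∨ i % ((3 : ℕ) : ℤ) = 1 ∨ i % ((3 : ℕ) : ℤ) = 2 := by omega
        rcases h3 with e | e | e <;> rw [e] <;> simp [pow_two]
      rcases hcases with h | h | h
      · rw [conj_eq_one_iff] at h
        rw [h, orderOf_one] at hx; omega
      · exact mul_inv_eq_iff_eq_mul.mp h
      · have hnn : Commute (n ^ 2) x := by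
          refine mul_inv_eq_iff_eq_mul.mp ?_
          calc n ^ 2 * x * (n ^ 2)⁻¹ = n * (n * x * n⁻¹) * n⁻¹ := by rw [pow_two]; group
            _ = n * (x * x) * n⁻¹ := by rw [h, pow_two]
            _ = (n * x * n⁻¹) * (n * x * n⁻¹) := by group
            _ = x ^ 3 * x := by rw [h, ← pow_add, ← pow_succ]
            _ = x := by rw [← hx, pow_orderOf_eq_one, one_mul]
        obtain ⟨m, hm⟩ := (hodd.of_dvd_nat (orderOf_dvd_natCard n))
        have : n = (n ^ 2) ^ (m + 1) := by
          rw [← pow_mul, show 2 * (m + 1) = orderOf n + 1 by omega, pow_succ, pow_orderOf_eq_one, one_mul]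
        rw [this]; exact hnn.pow_left _
    show n ∈ centralizer ((P : Subgroup H) : Set H)
    rw [hPx]
    intro s hs
    obtain ⟨i, rfl⟩ := mem_zpowers_iff.mp hs
    exact (hc.zpow_right i).eq.symm
  set K := (MonoidHom.transferSylow P hNC).ker
  have hcomp := MonoidHom.ker_transferSylow_isComplement' P hNC
  have h3 : ¬ 3 ∣ Nat.card K := MonoidHom.not_dvd_card_ker_transferSylow P hNC
  have hcard : Nat.card K * 3 = Nat.card H := by
    have h := hcomp.card_mul_card
    rwa [show Nat.card (P : Subgroup H) = 3 by rw [hPx, hX]] at h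
  refine ⟨K, fun h => ⟨fun hh hd => h3 (hd.trans (Subgroup.orderOf_dvd_natCard K hh)), fun hh => ?_⟩,
    by omega⟩
  have hidx : K.index = 3 := by
    have := K.card_mul_index
    exact Nat.eq_of_mul_eq_mul_left Nat.card_pos (this.trans hcard.symm)
  have hd := orderOf_dvd_natCard ((h : H) : H ⧸ K)
  rw [show Nat.card (H ⧸ K) = 3 from hidx] at hd
  have hd' : orderOf ((h : H) : H ⧸ K) ∣ orderOf h := orderOf_map_dvd (QuotientGroup.mk' K) h
  rcases (Nat.dvd_prime Nat.prime_three).mp hd with e | e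
  · exact (QuotientGroup.eq_one_iff _).mp (orderOf_eq_one_iff.mp e)
  · exact absurd (e ▸ hd') hh

/-- The semiregular case of odd order. -/
theorem card_eq_three (hodd : Odd (Nat.card H)) {x : H} (hx : orderOf x = 3)
    (hcent : ∀ h, Commute h x → h ∈ zpowers x) (hxE : ∀ e, e * φ x e * φ (x * x) e = 1)
    (hE2 : ∀ e : E, e ^ 2 = 1) (hE : Nontrivial E) (hreg : ∀ h e, e ≠ 1 → φ h e = e → h = 1) :
    Nat.card H = 3 := by
  obtain ⟨K, hK, hcard⟩ := exists_complement hodd hx hcent
  by_contra hne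
  obtain ⟨k, hk, hk1⟩ : ∃ k ∈ K, k ≠ 1 := by
    by_contra h
    push Not at h
    rw [(Subgroup.eq_bot_iff_forall K).mpr h, Subgroup.card_bot] at hcard
    exact hne hcard
  obtain ⟨e, he⟩ := exists_ne (1 : E)
  have hx3 : x ^ 3 = 1 := by rw [← hx, pow_orderOf_eq_one]
  have hpow := pow_card_eq_one φ hx3 K
    (fun k hk => (hK _).mpr (by
      rw [show x * k * x⁻¹ = MulAut.conj x k from rfl, MulEquiv.orderOf_eq]; exact (hK k).mp hk))
    (fun k hk hc => by
      have hd := orderOf_dvd_of_mem_zpowers (hcent k hc)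
      rw [hx] at hd
      rcases (Nat.dvd_prime Nat.prime_three).mp hd with h | h
      · exact orderOf_eq_one_iff.mp h
      · exact absurd (dvd_of_eq h.symm) ((hK k).mp hk))
    hxE (fun e' he' => by_contra fun hne' => hk1 (hreg k e' hne' (he' k hk))) e
  have hKo : Odd (Nat.card K) := hodd.of_dvd_nat (Subgroup.card_subgroup_dvd_card K)
  obtain ⟨m, hm⟩ := hKo
  rw [hm, pow_succ, pow_mul, hE2, one_pow, one_mul] at hpow
  exact he hpow

/-- The case where a Sylow 2-subgroup has order 2: the centralizer of the involution is minimal. -/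
theorem eq_of_commute (h4 : ¬ 4 ∣ Nat.card H) {x : H} (hx : orderOf x = 3)
    (hcent : ∀ h, Commute h x → h ∈ zpowers x) (hxE : ∀ e, e * φ x e * φ (x * x) e = 1)
    (hE2 : ∀ e : E, e ^ 2 = 1) (hfaith : Function.Injective φ) {τ : H} (hτ : orderOf τ = 2)
    (hstab : ∀ h e, e ≠ 1 → φ τ e = e → φ h e = e → h = 1 ∨ h = τ)
    {h : H} (hh : Commute h τ) : h = 1 ∨ h = τ := by
  have : Fact (Nat.Prime 2) := ⟨Nat.prime_two⟩
  have hT : Nat.card (zpowers τ) = 2 := by rw [Nat.card_zpowers, hτ]
  obtain ⟨P, hP⟩ := (IsPGroup.of_card (n := 1) (by rw [hT, pow_one]) :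
    IsPGroup 2 (zpowers τ)).exists_le_sylow
  have hPt : (P : Subgroup H) = zpowers τ := by
    refine (eq_of_le_of_card_ge hP ?_).symm
    obtain ⟨n, hn⟩ := IsPGroup.iff_card.mp P.isPGroup'
    rw [hT, hn]
    have hn1 : n ≤ 1 := by
      by_contra h'
      exact h4 ((pow_dvd_pow 2 (show 2 ≤ n by omega)).trans (hn ▸ Subgroup.card_subgroup_dvd_card _))
    calc 2 ^ n ≤ 2 ^ 1 := Nat.pow_le_pow_right (by norm_num) hn1
      _ = 2 := by norm_num
  have hNC : normalizer (P : Set H) ≤ centralizer (P : Set H) := by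
    intro n hn
    have hn' : n ∈ normalizer ((P : Subgroup H) : Set H) := hn
    rw [hPt] at hn'
    show n ∈ centralizer ((P : Subgroup H) : Set H)
    rw [hPt]
    have hmem := (mem_normalizer_iff.mp hn' τ).mp (mem_zpowers τ)
    have hc : Commute n τ := by
      refine mul_inv_eq_iff_eq_mul.mp ?_
      obtain ⟨i, hi⟩ := mem_zpowers_iff.mp hmem
      rw [← hi, ← zpow_mod_orderOf, hτ]
      have h3 : i % ((2 : ℕ) : ℤ) = 0 ∨ i % ((2 : ℕ) : ℤ) = 1 := by omega
      rcases h3 with e | e
      · exfalso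
        rw [← zpow_mod_orderOf, hτ, e, zpow_zero, eq_comm, conj_eq_one_iff] at hi
        rw [hi, orderOf_one] at hτ; omega
      · rw [e, zpow_one]
    intro s hs
    obtain ⟨i, rfl⟩ := mem_zpowers_iff.mp hs
    exact (hc.zpow_right i).eq.symm
  set O := (MonoidHom.transferSylow P hNC).ker
  have hcomp := MonoidHom.ker_transferSylow_isComplement' P hNC
  have hO2 : ¬ 2 ∣ Nat.card O := MonoidHom.not_dvd_card_ker_transferSylow P hNC
  have hOcard : Nat.card O * 2 = Nat.card H := by
    have h' := hcomp.card_mul_card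
    rwa [show Nat.card (P : Subgroup H) = 2 by rw [hPt, hT]] at h'
  have hOi : O.index = 2 :=
    Nat.eq_of_mul_eq_mul_left Nat.card_pos (O.card_mul_index.trans hOcard.symm)
  have hτO : τ ∉ O := fun h' => hO2 (hτ ▸ Subgroup.orderOf_dvd_natCard O h')
  have hxO : x ∈ O := by
    have h2 := Subgroup.sq_mem_of_index_two hOi (x * x)
    rwa [show (x * x) ^ 2 = x ^ 3 * x by rw [pow_two, pow_three]; group,
      show x ^ 3 = 1 by rw [← hx, pow_orderOf_eq_one], one_mul] at h2
  have hxo : orderOf (⟨x, hxO⟩ : O) = 3 := by rw [← hx, ← Subgroup.orderOf_coe]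
  obtain ⟨K, hK, hKcard⟩ := exists_complement (H := O) (Nat.odd_iff.mpr (by omega)) hxo
    (fun g hg => by
      obtain ⟨i, hi⟩ := mem_zpowers_iff.mp (hcent g (congrArg Subtype.val hg.eq))
      exact mem_zpowers_iff.mpr ⟨i, Subtype.ext (by simpa using hi)⟩)
  set K' := K.map O.subtype with hK'
  have hmemK : ∀ g, g ∈ K' ↔ g ∈ O ∧ ¬ 3 ∣ orderOf g := fun g => by
    constructor
    · rintro ⟨g', hg', rfl⟩
      exact ⟨g'.2, by rw [Subgroup.coe_subtype, Subgroup.orderOf_coe]; exact (hK g').mp hg'⟩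
    · rintro ⟨hgO, hg3⟩
      exact ⟨⟨g, hgO⟩, (hK _).mpr (by rwa [← Subgroup.orderOf_coe]), rfl⟩
  have hOn : O.Normal := Subgroup.normal_of_index_eq_two hOi
  have hconj : ∀ g : H, ∀ k ∈ K', g * k * g⁻¹ ∈ K' := fun g k hk => by
    obtain ⟨h1, h2⟩ := (hmemK k).mp hk
    exact (hmemK _).mpr ⟨hOn.conj_mem k h1 g, by
      rwa [show g * k * g⁻¹ = MulAut.conj g k from rfl, MulEquiv.orderOf_eq]⟩
  -- `K'` is trivial
  have hKbot : ∀ k ∈ K', k = 1 := by
    by_contra hne
    push Not at hne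
    obtain ⟨k, hk, hk1⟩ := hne
    obtain ⟨e, he, hefix⟩ : ∃ e, e ≠ 1 ∧ ∀ j ∈ K', φ j e = e := by
      by_contra hno
      push Not at hno
      have hKE : ∀ e, (∀ j ∈ K', φ j e = e) → e = 1 := fun e he => by_contra fun h1 => by
        obtain ⟨j, hj, hje⟩ := hno e h1
        exact hje (he j hj)
      have hodd : Odd (Nat.card K') := by
        rw [hK', Nat.card_congr (K.equivMapOfInjective _ Subtype.val_injective).toEquiv.symm]
        exact (Nat.odd_iff.mpr (by omega : Nat.card O % 2 = 1)).of_dvd_nat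
          (Subgroup.card_subgroup_dvd_card K)
      obtain ⟨m, hm⟩ := hodd
      refine hk1 (hfaith (MulEquiv.ext fun e => ?_))
      have he1 : e = 1 := by
        have hp := pow_card_eq_one φ (by rw [← hx, pow_orderOf_eq_one]) K' (fun j hj => hconj x j hj)
          (fun j hj hc => by
            have hd := orderOf_dvd_of_mem_zpowers (hcent j hc)
            rw [hx] at hd
            rcases (Nat.dvd_prime Nat.prime_three).mp hd with h' | h'
            · exact orderOf_eq_one_iff.mp h'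
            · exact absurd (dvd_of_eq h'.symm) ((hmemK j).mp hj).2) hxE hKE e
        rwa [hm, pow_succ, pow_mul, hE2, one_pow, one_mul] at hp
      rw [he1, map_one, map_one]
    -- a point fixed by `K'` and `τ`
    obtain ⟨e0, he0, hτe0, hKe0⟩ : ∃ e0, e0 ≠ 1 ∧ φ τ e0 = e0 ∧ ∀ j ∈ K', φ j e0 = e0 := by
      by_cases h1 : φ τ e = e
      · exact ⟨e, he, h1, hefix⟩
      refine ⟨e * φ τ e, fun h' => h1 ?_, ?_, fun j hj => ?_⟩
      · calc φ τ e = e * (e * φ τ e) := by rw [← mul_assoc, ← pow_two, hE2, one_mul]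
          _ = e := by rw [h', mul_one]
      · rw [map_mul, ← MulAut.mul_apply, ← map_mul, ← pow_two, ← hτ, pow_orderOf_eq_one, map_one,
          MulAut.one_apply, mul_comm]
      · rw [map_mul, hefix j hj]
        congr 1
        have hj' := hefix _ (hconj τ⁻¹ j hj)
        calc φ j (φ τ e) = φ τ (φ (τ⁻¹ * j * τ⁻¹⁻¹) e) := by
              simp only [← MulAut.mul_apply, ← map_mul]; congr 2; group
          _ = φ τ e := by rw [hj']
    rcases hstab k e0 he0 hτe0 (hKe0 k hk) with h' | h'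
    · exact hk1 h'
    · exact hτO (h' ▸ ((hmemK k).mp hk).1)
  have hKbot' : K = ⊥ := (Subgroup.eq_bot_iff_forall K).mpr fun k hk =>
    Subtype.ext (hKbot _ ⟨k, hk, rfl⟩)
  rw [hKbot', Subgroup.card_bot] at hKcard
  -- `O = ⟨x⟩`
  have hO : O = zpowers x := by
    refine (eq_of_le_of_card_ge (zpowers_le.mpr hxO) ?_).symm
    rw [hKcard, Nat.card_zpowers, hx]
  have hτx : ¬ Commute τ x := fun hc => hτO (hO ▸ hcent τ hc)
  have hfin : ∀ g ∈ O, Commute g τ → g = 1 := fun g hg hc => by
    rw [hO] at hg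
    by_contra hg1
    obtain ⟨i, hi⟩ : ∃ i : ℤ, g ^ i = x := by
      have hle : zpowers g = zpowers x := by
        refine eq_of_le_of_card_ge (zpowers_le.mpr hg) ?_
        rw [Nat.card_zpowers, Nat.card_zpowers, hx]
        have hd := orderOf_dvd_of_mem_zpowers hg
        rw [hx] at hd
        rcases (Nat.dvd_prime Nat.prime_three).mp hd with h' | h'
        · exact absurd (orderOf_eq_one_iff.mp h') hg1
        · exact h'.ge
      exact mem_zpowers_iff.mp (hle ▸ mem_zpowers x)
    exact hτx (hi ▸ (hc.symm.zpow_right i))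
  by_cases hhO : h ∈ O
  · exact Or.inl (hfin h hhO hh)
  · right
    have hmem : h * τ ∈ O := (Subgroup.mul_mem_iff_of_index_two hOi).mpr (iff_of_false hhO hτO)
    have h1 := hfin _ hmem (hh.mul_left (Commute.refl τ))
    have ht2 : τ * τ = 1 := by rw [← pow_two, ← hτ, pow_orderOf_eq_one]
    calc h = h * (τ * τ) := by rw [ht2, mul_one]
      _ = τ := by rw [← mul_assoc, h1, one_mul]

end Cfsg.Agent.SelfCentThree
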