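import Cfsg.Agent.EqLemmas

/-!
# An element of order three acting without fixed points

`SC y` : `y` has order 3 and is self-centralizing.  For a `y`-invariant subgroup `Y` of order prime
to 3: `SC.cube_rel`, `SC.four_rel`, `SC.false_of_index_two`, and the key lemma
`SC.commute_of_index_two`: an involution of `Y` whose centralizer in `Y` has index at most 2 is central.
-/

set_option autoImplicit false

namespace Cfsg.Agent.SelfCentThree

variable {G : Type*} [Group G]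

/-- `y` has order three and is self-centralizing. -/
structure SC (y : G) : Prop where
  ord : orderOf y = 3
  cent : ∀ g : G, Commute g y → g ∈ Subgroup.zpowers y

/-- `Y` is invariant under conjugation by `y`. -/
def Invar (y : G) (Y : Subgroup G) : Prop := ∀ g ∈ Y, y * g * y⁻¹ ∈ Y

namespace SC

variable {y : G}

theorem cubed (hy : SC y) : y ^ 3 = 1 := by rw [← hy.ord, pow_orderOf_eq_one]

theorem inv_eq (hy : SC y) : y⁻¹ = y * y :=
  inv_eq_of_mul_eq_one_right (by rw [← mul_assoc, ← pow_three', hy.cubed])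

theorem ne_one (hy : SC y) : y ≠ 1 := fun h => by
  have := hy.ord
  rw [h, orderOf_one] at this
  omega

theorem conj (hy : SC y) (g : G) : SC (g * y * g⁻¹) where
  ord := by rw [show g * y * g⁻¹ = MulAut.conj g y from rfl, MulEquiv.orderOf_eq, hy.ord]
  cent := fun h hh => by
    have hc : Commute (g⁻¹ * h * g) y := by
      show g⁻¹ * h * g * y = y * (g⁻¹ * h * g)
      calc g⁻¹ * h * g * y = g⁻¹ * (h * (g * y * g⁻¹)) * g := by group
        _ = g⁻¹ * ((g * y * g⁻¹) * h) * g := by rw [hh.eq]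
        _ = _ := by group
    obtain ⟨i, hi⟩ := Subgroup.mem_zpowers_iff.mp (hy.cent _ hc)
    exact Subgroup.mem_zpowers_iff.mpr ⟨i, by rw [conj_zpow, hi]; group⟩

theorem symm (hy : SC y) : SC y⁻¹ where
  ord := by rw [orderOf_inv, hy.ord]
  cent := fun g hg => by rw [Subgroup.zpowers_inv]; exact hy.cent g (Commute.inv_right_iff.mp hg)

theorem invar_inv (hy : SC y) {Y : Subgroup G} (hY : Invar y Y) {g : G} (hg : g ∈ Y) :
    y⁻¹ * g * y ∈ Y := by
  have h := hY _ (hY g hg)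
  have e : y⁻¹ * g * y = y * (y * g * y⁻¹) * y⁻¹ := by
    calc y⁻¹ * g * y = y⁻¹ * g * (y⁻¹)⁻¹ := by group
      _ = (y * y) * g * (y * y)⁻¹ := by rw [hy.inv_eq]
      _ = _ := by group
  rwa [e]

theorem invar_symm (hy : SC y) {Y : Subgroup G} (hY : Invar y Y) : Invar y⁻¹ Y := fun g hg => by
  rw [inv_inv]; exact hy.invar_inv hY hg

theorem mem_of_conj_mem (hy : SC y) {Y : Subgroup G} (hY : Invar y Y) {g : G}
    (hg : y * g * y⁻¹ ∈ Y) : g ∈ Y := by
  have h := hy.invar_inv hY hg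
  rwa [show y⁻¹ * (y * g * y⁻¹) * y = g by group] at h

theorem conj_thrice (hy : SC y) (g : G) : y * (y * (y * g * y⁻¹) * y⁻¹) * y⁻¹ = g := by
  calc y * (y * (y * g * y⁻¹) * y⁻¹) * y⁻¹ = y ^ 3 * g * (y ^ 3)⁻¹ := by simp only [pow_three]; group
    _ = g := by rw [hy.cubed]; group

/-- The only element of `Y` commuting with `y` is 1. -/
theorem eq_one_of_commute (hy : SC y) {Y : Subgroup G} (h3 : ¬ 3 ∣ Nat.card Y) {g : G} (hg : g ∈ Y)
    (hc : Commute g y) : g = 1 := by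
  have h1 : orderOf g ∣ 3 := by
    obtain ⟨i, rfl⟩ := Subgroup.mem_zpowers_iff.mp (hy.cent g hc)
    rw [← hy.ord]
    exact orderOf_dvd_of_mem_zpowers (Subgroup.mem_zpowers_iff.mpr ⟨i, rfl⟩)
  have h2 : orderOf g ∣ Nat.card Y := Subgroup.orderOf_dvd_natCard Y hg
  rcases (Nat.dvd_prime Nat.prime_three).mp h1 with h | h
  · exact orderOf_eq_one_iff.mp h
  · exact absurd (h ▸ h2) h3

theorem not_mem (hy : SC y) {Y : Subgroup G} (h3 : ¬ 3 ∣ Nat.card Y) : y ∉ Y := fun h =>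
  hy.ne_one (hy.eq_one_of_commute h3 h (Commute.refl y))

set_option linter.unusedSectionVars false

variable [Finite G]

/-- Every element of the coset `Y * y` is conjugate to `y` under `Y`. -/
theorem exists_conj_eq (hy : SC y) {Y : Subgroup G} (h3 : ¬ 3 ∣ Nat.card Y) (hY : Invar y Y) {h : G}
    (hh : h ∈ Y) : ∃ g ∈ Y, g * y * g⁻¹ = h * y := by
  let f : Y → Y := fun g => ⟨(g : G) * (y * (g : G)⁻¹ * y⁻¹),
    Y.mul_mem g.2 (hY _ (Y.inv_mem g.2))⟩
  have hf : Function.Injective f := by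
    intro a b e
    have e' : (a : G) * (y * (a : G)⁻¹ * y⁻¹) = b * (y * (b : G)⁻¹ * y⁻¹) := congrArg Subtype.val e
    have hc : Commute ((b : G)⁻¹ * a) y := by
      show (b : G)⁻¹ * a * y = y * ((b : G)⁻¹ * a)
      calc (b : G)⁻¹ * a * y = (b : G)⁻¹ * (a * (y * (a : G)⁻¹ * y⁻¹)) * (y * a) := by group
        _ = (b : G)⁻¹ * (b * (y * (b : G)⁻¹ * y⁻¹)) * (y * a) := by rw [e']
        _ = _ := by group
    have := hy.eq_one_of_commute h3 (Y.mul_mem (Y.inv_mem b.2) a.2) hc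
    exact Subtype.ext (inv_mul_eq_one.mp this).symm
  obtain ⟨g, hg⟩ := Finite.surjective_of_injective hf ⟨h, hh⟩
  refine ⟨g, g.2, ?_⟩
  have e : (g : G) * (y * (g : G)⁻¹ * y⁻¹) = h := congrArg Subtype.val hg
  rw [← e]; group

/-- `h * y` has order dividing 3. -/
theorem cube_rel (hy : SC y) {Y : Subgroup G} (h3 : ¬ 3 ∣ Nat.card Y) (hY : Invar y Y) {h : G}
    (hh : h ∈ Y) : h * (y * h * y⁻¹) * (y * (y * h * y⁻¹) * y⁻¹) = 1 := by
  obtain ⟨g, -, hg⟩ := hy.exists_conj_eq h3 hY hh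
  have : (h * y) ^ 3 = 1 := by rw [← hg, conj_pow, hy.cubed]; group
  calc h * (y * h * y⁻¹) * (y * (y * h * y⁻¹) * y⁻¹)
      = (h * y) ^ 3 * (y ^ 3)⁻¹ := by simp only [pow_three]; group
    _ = 1 := by rw [this, hy.cubed]; group

theorem cube_rel' (hy : SC y) {Y : Subgroup G} (h3 : ¬ 3 ∣ Nat.card Y) (hY : Invar y Y) {h : G}
    (hh : h ∈ Y) : h * (y * (y * h * y⁻¹) * y⁻¹) * (y * h * y⁻¹) = 1 := by
  have := hy.symm.cube_rel h3 (hy.invar_symm hY) hh
  have e1 : y⁻¹ * h * y⁻¹⁻¹ = y * (y * h * y⁻¹) * y⁻¹ := by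
    calc y⁻¹ * h * y⁻¹⁻¹ = (y * y) * h * (y * y)⁻¹ := by rw [hy.inv_eq]
      _ = _ := by group
  have e2 : y⁻¹ * (y * (y * h * y⁻¹) * y⁻¹) * y⁻¹⁻¹ = y * h * y⁻¹ := by group
  rwa [e1, e2] at this

/-- The three conjugates of an involution of `Y` commute and multiply to 1. -/
theorem four_rel (hy : SC y) {Y : Subgroup G} (h3 : ¬ 3 ∣ Nat.card Y) (hY : Invar y Y) {w : G}
    (hw : w ∈ Y) (hw2 : w * w = 1) :
    Commute w (y * w * y⁻¹) ∧ y * (y * w * y⁻¹) * y⁻¹ = w * (y * w * y⁻¹) := by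
  have h1 := hy.cube_rel h3 hY hw
  have h2 := hy.cube_rel' h3 hY hw
  set a := y * w * y⁻¹ with ha
  set b := y * a * y⁻¹ with hb
  have hwi : w⁻¹ = w := inv_eq_of_mul_eq_one_right hw2
  have ha2 : a * a = 1 := by
    rw [ha]
    calc y * w * y⁻¹ * (y * w * y⁻¹) = y * (w * w) * y⁻¹ := by group
      _ = 1 := by rw [hw2]; group
  have hai : a⁻¹ = a := inv_eq_of_mul_eq_one_right ha2
  have hb1 : b = a * w := by
    have e : b = (w * a)⁻¹ := (inv_eq_of_mul_eq_one_right h1).symm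
    rw [e, mul_inv_rev, hwi, hai]
  have hb2 : b = w * a := by
    have e : w * b = a⁻¹ := eq_inv_of_mul_eq_one_left h2
    rw [hai] at e
    calc b = w * (w * b) := by rw [← mul_assoc, hw2, one_mul]
      _ = w * a := by rw [e]
  exact ⟨hb2.symm.trans hb1, hb2⟩

theorem conj_ne_self (hy : SC y) {Y : Subgroup G} (h3 : ¬ 3 ∣ Nat.card Y) {w : G} (hw : w ∈ Y)
    (hw1 : w ≠ 1) : y * w * y⁻¹ ≠ w := fun h =>
  hw1 (hy.eq_one_of_commute h3 hw (mul_inv_eq_iff_eq_mul.mp h).symm)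

/-- A `y`-invariant set of cardinality prime to 3 contains an element commuting with `y`. -/
theorem exists_fixed (hy : SC y) (s : Set G) (hs : ∀ g ∈ s, y * g * y⁻¹ ∈ s)
    (h3 : ¬ 3 ∣ s.ncard) : ∃ g ∈ s, Commute g y := by
  classical
  have hinj : Function.Injective fun g : s => (⟨y * g * y⁻¹, hs g g.2⟩ : s) := fun a b e =>
    Subtype.ext (mul_left_cancel (mul_right_cancel (congrArg Subtype.val e)))
  let σ : Equiv.Perm s := Equiv.ofBijective _ (Finite.injective_iff_bijective.mp hinj)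
  have hσ : σ ^ (3 ^ 1) = 1 := by
    ext g
    show y * (y * (y * (g : G) * y⁻¹) * y⁻¹) * y⁻¹ = g
    exact hy.conj_thrice g
  have : Fintype s := Fintype.ofFinite _
  obtain ⟨g, hg⟩ := Equiv.Perm.exists_fixed_point_of_prime
    (by rw [← Nat.card_eq_fintype_card, Nat.card_coe_set_eq]; exact h3)
    (hp := ⟨Nat.prime_three⟩) hσ
  refine ⟨g, g.2, ?_⟩
  have : y * (g : G) * y⁻¹ = g := congrArg Subtype.val hg
  exact (mul_inv_eq_iff_eq_mul.mp this).symm

/-- An invariant subgroup of order prime to 3 has no invariant subgroup of index two. -/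
theorem false_of_index_two (hy : SC y) {Y J : Subgroup G} (h3 : ¬ 3 ∣ Nat.card Y) (hJY : J ≤ Y)
    (hY : Invar y Y) (hJ : Invar y J) (hcard : Nat.card Y = 2 * Nat.card J) : False := by
  have hs : ((Y : Set G) \ (J : Set G)).ncard = Nat.card J := by
    have e := Set.ncard_sdiff (s := (J : Set G)) (t := (Y : Set G)) hJY (Set.toFinite _)
    rw [e, ← Nat.card_coe_set_eq, ← Nat.card_coe_set_eq]
    simp only [SetLike.coe_sort_coe]
    omega
  obtain ⟨g, ⟨hgY, hgJ⟩, hc⟩ := hy.exists_fixed ((Y : Set G) \ (J : Set G))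
    (fun g hg => ⟨hY g hg.1, fun h => hg.2 (hy.mem_of_conj_mem hJ h)⟩)
    (by rw [hs]; exact fun h => h3 (hcard ▸ dvd_mul_of_dvd_right h 2))
  exact hgJ (hy.eq_one_of_commute h3 hgY hc ▸ J.one_mem)

theorem mul_mem_of_index_two {Y J : Subgroup G} (hJY : J ≤ Y)
    (hcard : Nat.card Y = 2 * Nat.card J) {g h : G} (hg : g ∈ Y) (hgJ : g ∉ J) (hh : h ∈ Y)
    (hhJ : h ∉ J) : g⁻¹ * h ∈ J := by
  have hidx : (J.subgroupOf Y).index = 2 := by
    have e := (J.subgroupOf Y).card_mul_index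
    rw [Nat.card_congr (Subgroup.subgroupOfEquivOfLe hJY).toEquiv, hcard] at e
    exact Nat.eq_of_mul_eq_mul_left Nat.card_pos (by rw [e, mul_comm])
  have h1 := Subgroup.mul_mem_iff_of_index_two hidx (a := (⟨g, hg⟩ : Y)⁻¹) (b := ⟨h, hh⟩)
  simp only [Subgroup.inv_mem_iff, Subgroup.mem_subgroupOf] at h1
  exact h1.mpr (iff_of_false hgJ hhJ)

/-- An involution of `Y` centralized by a subgroup of index two is central. -/
theorem commute_of_index_two (hy : SC y) {Y J : Subgroup G} (h3 : ¬ 3 ∣ Nat.card Y) (hY : Invar y Y)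
    (hJY : J ≤ Y) (hcard : Nat.card Y = 2 * Nat.card J) {w : G} (hw : w ∈ Y) (hw2 : w * w = 1)
    (hJw : ∀ g ∈ J, Commute g w) : ∀ g ∈ Y, Commute g w := by
  intro g hg
  by_contra hne
  have hJc : ∀ h ∈ Y, Commute h w → h ∈ J := fun h hh hc => by
    by_contra hhJ
    refine hne ?_
    have hj := mul_mem_of_index_two hJY hcard hh hhJ hg (fun h' => hne (hJw g h'))
    have := hc.mul_left (hJw _ hj)
    rwa [mul_inv_cancel_left] at this
  have hgJ : g ∉ J := fun h => hne (hJw g h)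
  set w' := g * w * g⁻¹ with hw'
  have hact : ∀ h ∈ Y, h ∉ J → h * w * h⁻¹ = w' := fun h hh hhJ => by
    have e := hJw _ (mul_mem_of_index_two hJY hcard hg hgJ hh hhJ)
    calc h * w * h⁻¹ = g * (g⁻¹ * h * w) * h⁻¹ := by group
      _ = g * (w * (g⁻¹ * h)) * h⁻¹ := by rw [e.eq]
      _ = w' := by rw [hw']; group
  set a := y * w * y⁻¹ with ha
  set b := y * a * y⁻¹ with hb
  obtain ⟨hwa, hbw⟩ := hy.four_rel h3 hY hw hw2
  replace hwa : Commute w a := hwa
  replace hbw : b = w * a := hbw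
  set a' := y * w' * y⁻¹ with ha'
  -- an element centralizing `a` but moving `w`
  obtain ⟨g0, hg0, hg0'⟩ : ∃ g0 ∈ J, y⁻¹ * g0 * y ∉ J := by
    by_contra h
    push Not at h
    refine hy.false_of_index_two h3 hJY hY (fun x hx => ?_) hcard
    have := h _ (h x hx)
    have e : y⁻¹ * (y⁻¹ * x * y) * y = y * x * y⁻¹ := by
      calc y⁻¹ * (y⁻¹ * x * y) * y
          = (y⁻¹ * y⁻¹) * x * (y⁻¹ * y⁻¹)⁻¹ := by simp only [mul_inv_rev, inv_inv, mul_assoc]
        _ = y * x * y⁻¹ := by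
          rw [show y⁻¹ * y⁻¹ = y by rw [hy.inv_eq, ← mul_assoc, ← pow_three', hy.cubed, one_mul]]
    rwa [e] at this
  set g1 := y * g0 * y⁻¹ with hg1
  have hg0Y : g0 ∈ Y := hJY hg0
  have hg1Y : g1 ∈ Y := hY _ hg0Y
  have hg0w : g0 * w = w * g0 := (hJw _ hg0).eq
  have hg1a : g1 * a = a * g1 := by
    rw [hg1, ha]
    calc y * g0 * y⁻¹ * (y * w * y⁻¹) = y * (g0 * w) * y⁻¹ := by group
      _ = y * (w * g0) * y⁻¹ := by rw [hg0w]
      _ = _ := by group
  have hg0a : g0 * a ≠ a * g0 := fun h => hg0' (hJc _ (hy.invar_inv hY hg0Y) (by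
    show y⁻¹ * g0 * y * w = w * (y⁻¹ * g0 * y)
    calc y⁻¹ * g0 * y * w = y⁻¹ * (g0 * a) * y := by rw [ha]; group
      _ = y⁻¹ * (a * g0) * y := by rw [h]
      _ = _ := by rw [ha]; group))
  have hg1b : g1 * b ≠ b * g1 := fun h => hg0a (by
    calc g0 * a = y⁻¹ * (g1 * b) * y := by rw [hg1, hb]; group
      _ = y⁻¹ * (b * g1) * y := by rw [h]
      _ = _ := by rw [hg1, hb]; group)
  have hg1J : g1 ∉ J := fun h => hg1b (by
    rw [hbw]; exact ((hJw _ h).mul_right hg1a).eq)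
  have hg1w : g1 * w * g1⁻¹ = w' := hact _ hg1Y hg1J
  -- the two values of the conjugate of `b` by `g1`
  have hbb : g1 * b * g1⁻¹ = w' * a := by
    rw [hbw]
    calc g1 * (w * a) * g1⁻¹ = g1 * w * g1⁻¹ * (g1 * a * g1⁻¹) := by group
      _ = w' * a := by rw [hg1w, hg1a, mul_inv_cancel_right]
  have hg2J : ∀ h ∈ Y, h * b ≠ b * h → h * b * h⁻¹ = y * a' * y⁻¹ := by
    intro h hh hne'
    have hmem : y⁻¹ * (y⁻¹ * h * y) * y ∈ Y := hy.invar_inv hY (hy.invar_inv hY hh)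
    have hnJ : y⁻¹ * (y⁻¹ * h * y) * y ∉ J := fun h' => hne' (by
      calc h * b = y * (y * ((y⁻¹ * (y⁻¹ * h * y) * y) * w) * y⁻¹) * y⁻¹ := by rw [hb, ha]; group
        _ = y * (y * (w * (y⁻¹ * (y⁻¹ * h * y) * y)) * y⁻¹) * y⁻¹ := by rw [(hJw _ h').eq]
        _ = _ := by rw [hb, ha]; group)
    rw [ha', ← hact _ hmem hnJ, hb, ha]; group
  have hb'1 : y * a' * y⁻¹ = w' * a := by rw [← hg2J g1 hg1Y hg1b, hbb]
  have hg0b : g0 * b ≠ b * g0 := fun h => hg0a (by
    have : a = w * b := by rw [hbw, ← mul_assoc, hw2, one_mul]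
    rw [this]; exact (Commute.mul_right hg0w h).eq)
  have hb'0 : y * a' * y⁻¹ = w * a' := by
    have haa : g0 * a * g0⁻¹ = a' := by
      have hnJ : y⁻¹ * g0 * y ∉ J := hg0'
      rw [ha', ← hact _ (hy.invar_inv hY hg0Y) hnJ, ha]; group
    rw [← hg2J g0 hg0Y hg0b, hbw]
    calc g0 * (w * a) * g0⁻¹ = g0 * w * g0⁻¹ * (g0 * a * g0⁻¹) := by group
      _ = w * a' := by rw [hg0w, mul_inv_cancel_right, haa]
  have hwa' : Commute w' a := by
    show w' * a = a * w'
    rw [← hg1w]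
    calc g1 * w * g1⁻¹ * a = g1 * w * g1⁻¹ * (g1 * a * g1⁻¹) := by rw [hg1a, mul_inv_cancel_right]
      _ = g1 * (w * a) * g1⁻¹ := by group
      _ = g1 * (a * w) * g1⁻¹ := by rw [hwa.eq]
      _ = (g1 * a * g1⁻¹) * (g1 * w * g1⁻¹) := by group
      _ = _ := by rw [hg1a, mul_inv_cancel_right]
  have hai : a * a = 1 := by
    rw [ha]
    calc y * w * y⁻¹ * (y * w * y⁻¹) = y * (w * w) * y⁻¹ := by group
      _ = 1 := by rw [hw2]; group
  have hfix : y * (w * w') * y⁻¹ = w * w' := by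
    have e : a' = w * w' * a := by
      have := hb'0.symm.trans hb'1
      calc a' = w * (w * a') := by rw [← mul_assoc, hw2, one_mul]
        _ = w * (w' * a) := by rw [this]
        _ = _ := (mul_assoc _ _ _).symm
    calc y * (w * w') * y⁻¹ = a * a' := by rw [ha, ha']; group
      _ = a * ((w * w') * a) := by rw [e]
      _ = (a * (w * w')) * a := (mul_assoc _ _ _).symm
      _ = (w * w') * a * a := by rw [(hwa.symm.mul_right hwa'.symm).eq]
      _ = (w * w') * (a * a) := mul_assoc _ _ _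
      _ = _ := by rw [hai, mul_one]
  have h1 : w * w' = 1 :=
    hy.eq_one_of_commute h3 (Y.mul_mem hw (Y.mul_mem (Y.mul_mem hg hw) (Y.inv_mem hg)))
      (mul_inv_eq_iff_eq_mul.mp hfix).symm
  have h2 : w' = w := by
    calc w' = w * (w * w') := by rw [← mul_assoc, hw2, one_mul]
      _ = w := by rw [h1, mul_one]
  exact hne (mul_inv_eq_iff_eq_mul.mp h2)

end SC

end Cfsg.Agent.SelfCentThree
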