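import Cfsg.Agent.Lib.SelfCentThree.Central

/-!
# The bound on the number of pairs

`four_mul_card_pair_le` : `4 |Pair t| ≤ c (c + 6)` with `c = |C(t)|`, if `c > 8`.
-/

set_option autoImplicit false
set_option linter.unusedSectionVars false

namespace Cfsg.Agent.SelfCentThree

open Subgroup

variable {G : Type*} [Group G] [Finite G] {t : G}

theorem four_mul_card_pair_le (hG : Hyp G) (ht : orderOf t = 2)
    (h8 : 8 < Nat.card (centralizer ({t} : Set G))) :
    4 * Nat.card (Pair t) ≤
      Nat.card (centralizer ({t} : Set G)) * (Nat.card (centralizer ({t} : Set G)) + 6) := by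
  classical
  set C := centralizer ({t} : Set G) with hC
  set c := Nat.card C with hc
  have := Fintype.ofFinite G
  let S := {a : G // Good t a}
  refine (Nat.mul_le_mul_left 4 (card_pair_le hG ht)).trans ?_
  let A : Finset S := Finset.univ.filter fun a => Nat.card (centTwo t (a : G)) = c
  let B : Finset S := Finset.univ.filter fun a => c = 2 * Nat.card (centTwo t (a : G))
  have hterm : ∀ a : S, 4 * Nat.card (centTwo t (a : G)) ≤
      c + ((if a ∈ A then 3 * c else 0) + (if a ∈ B then c else 0)) := by
    intro a
    obtain ⟨k, hk⟩ := Subgroup.card_dvd_of_le (centTwo_le (t := t) (a := (a : G)))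
    change c = _ at hk
    have h3 : k ≠ 3 := fun e => hG.not_three_dvd ht (show 3 ∣ c by rw [hk, e]; exact dvd_mul_left 3 _)
    have hk0 : k ≠ 0 := fun e => by rw [e, mul_zero] at hk; omega
    by_cases h1 : k = 1
    · subst h1
      rw [if_pos (show a ∈ A by simp [A, hk])]
      omega
    by_cases h2 : k = 2
    · subst h2
      rw [if_pos (show a ∈ B by simp [B, hk]; ring)]
      omega
    have : 4 ≤ k := by omega
    calc 4 * Nat.card (centTwo t (a : G)) ≤ k * Nat.card (centTwo t (a : G)) := Nat.mul_le_mul_right _ this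
      _ = c := by rw [hk, mul_comm]
      _ ≤ _ := Nat.le_add_right _ _
  have hA : A.card ≤ 2 := by
    by_cases hne : A = ∅
    · simp [hne]
    obtain ⟨a, ha⟩ := Finset.nonempty_iff_ne_empty.mpr hne
    obtain ⟨y, hy⟩ := a.2
    have hYa : centTwo t (a : G) = C :=
      eq_of_le_of_card_ge centTwo_le (Finset.mem_filter.mp ha).2.ge
    refine (Finset.card_le_card_of_injOn (fun b : S => (b : G)) (t := ({(a : G), t * a} : Finset G))
      (fun b hb => ?_) Subtype.val_injective.injOn).trans Finset.card_le_two
    obtain ⟨z, hz⟩ := b.2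
    have hYb : centTwo t (b : G) = C :=
      eq_of_le_of_card_ge centTwo_le (Finset.mem_filter.mp hb).2.ge
    rcases central_cases hG ht hy hYa (hz.orderOf_a ht)
      (fun g hg => (mem_centTwo.mp (hYb.ge hg)).2) with e | e | e
    · exact absurd e (hz.ne hG ht)
    · simp [e]
    · simp [e]
  have hB : B.card ≤ 2 := by
    by_cases hne : B = ∅
    · simp [hne]
    obtain ⟨a, ha⟩ := Finset.nonempty_iff_ne_empty.mpr hne
    obtain ⟨y, hy⟩ := a.2
    refine (Finset.card_le_card_of_injOn (fun b : S => (b : G)) (t := ({(a : G), t * a} : Finset G))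
      (fun b hb => ?_) Subtype.val_injective.injOn).trans Finset.card_le_two
    obtain ⟨z, hz⟩ := b.2
    rcases index_two_cases hG ht hy (Finset.mem_filter.mp ha).2 hz (Finset.mem_filter.mp hb).2
      with e | e | e
    · simp [e]
    · simp [e]
    · exact absurd e (not_le.mpr h8)
  have hS : Fintype.card S + 2 ≤ c := by
    have hsub : ((Finset.univ : Finset S).image Subtype.val) ∪ {1, t} ⊆
        (Set.toFinite (C : Set G)).toFinset := by
      intro g hg
      rw [Set.Finite.mem_toFinset]
      simp only [Finset.mem_union, Finset.mem_image, Finset.mem_univ, true_and, Finset.mem_insert,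
        Finset.mem_singleton] at hg
      rcases hg with ⟨b, rfl⟩ | rfl | rfl
      · obtain ⟨z, hz⟩ := b.2
        exact centTwo_le (self_mem_centTwo hz ht).2
      · exact C.one_mem
      · exact mem_centralizer_singleton_iff.mpr rfl
    have h := Finset.card_le_card hsub
    rw [Finset.card_union_of_disjoint, Finset.card_image_of_injective _ Subtype.val_injective,
      Finset.card_univ, Finset.card_pair (ne_one_of_orderOf ht).symm,
      ← Set.ncard_eq_toFinset_card _, ← Nat.card_coe_set_eq] at h
    · exact h
    · rw [Finset.disjoint_left]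
      intro g hg
      obtain ⟨b, -, rfl⟩ := Finset.mem_image.mp hg
      obtain ⟨z, hz⟩ := b.2
      simp [ne_one_of_orderOf (hz.orderOf_a ht), hz.ne hG ht]
  rw [Finset.mul_sum]
  refine (Finset.sum_le_sum fun a _ => hterm a).trans ?_
  rw [Finset.sum_add_distrib, Finset.sum_add_distrib, Finset.sum_const, Finset.sum_ite_mem,
    Finset.sum_ite_mem, Finset.univ_inter, Finset.univ_inter, Finset.sum_const, Finset.sum_const,
    Finset.card_univ, smul_eq_mul, smul_eq_mul, smul_eq_mul]
  have : B.card * c ≤ 2 * c := Nat.mul_le_mul_right c hB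
  have : A.card * (3 * c) ≤ 2 * (3 * c) := Nat.mul_le_mul_right _ hA
  obtain ⟨n, hn⟩ : ∃ n, c = Fintype.card S + 2 + n := ⟨c - (Fintype.card S + 2), by omega⟩
  nlinarith

end Cfsg.Agent.SelfCentThree
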