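import Cfsg.Agent.Lib.SelfCentThree.Pairs
import Cfsg.Agent.Lib.SelfCentThree.Act

/-!
# Good elements whose centralizer in `C(t)` has index at most two

`central_cases`, `invCenter_cases`, `index_two_cases`, `four_mul_card_pair_le`.
-/

set_option autoImplicit false
set_option linter.unusedSectionVars false

namespace Cfsg.Agent.SelfCentThree

open Subgroup

variable {G : Type*} [Group G]

/-- The involutions of the centre of `Y`, with 1. -/
def invCenter (Y : Subgroup G) : Subgroup G where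
  carrier := {g | g ∈ Y ∧ (∀ h ∈ Y, h * g = g * h) ∧ g * g = 1}
  mul_mem' := fun {a b} ⟨ha, hca, ha2⟩ ⟨hb, hcb, hb2⟩ => ⟨Y.mul_mem ha hb,
    fun h hh => (Commute.mul_right (hca h hh) (hcb h hh)).eq, by
      have e : a * b = b * a := hcb a ha
      calc a * b * (a * b) = a * (b * a) * b := by simp only [mul_assoc]
        _ = (a * a) * (b * b) := by rw [← e]; simp only [mul_assoc]
        _ = 1 := by rw [ha2, hb2, one_mul]⟩
  one_mem' := ⟨Y.one_mem, fun h _ => by simp, one_mul 1⟩
  inv_mem' := fun {a} ⟨ha, hca, ha2⟩ => by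
    rw [inv_eq_of_mul_eq_one_right ha2]; exact ⟨ha, hca, ha2⟩

theorem mem_invCenter {Y : Subgroup G} {g : G} :
    g ∈ invCenter Y ↔ g ∈ Y ∧ (∀ h ∈ Y, h * g = g * h) ∧ g * g = 1 := Iff.rfl

instance invCenter_isMulCommutative (Y : Subgroup G) : IsMulCommutative (invCenter Y) :=
  ⟨⟨fun a b => Subtype.ext (b.2.2.1 a a.2.1)⟩⟩

theorem invCenter_conj {Y : Subgroup G} {n g : G} (hn : n ∈ normalizer (Y : Set G))
    (hg : g ∈ invCenter Y) : n * g * n⁻¹ ∈ invCenter Y := by
  obtain ⟨h1, h2, h3⟩ := hg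
  refine ⟨(mem_normalizer_iff.mp hn g).mp h1, fun h hh => ?_, ?_⟩
  · have hh' : n⁻¹ * h * n ∈ Y := by
      have := (mem_normalizer_iff.mp (inv_mem hn) h).mp hh
      simpa using this
    calc h * (n * g * n⁻¹) = n * ((n⁻¹ * h * n) * g) * n⁻¹ := by group
      _ = n * (g * (n⁻¹ * h * n)) * n⁻¹ := by rw [h2 _ hh']
      _ = _ := by group
  · calc n * g * n⁻¹ * (n * g * n⁻¹) = n * (g * g) * n⁻¹ := by group
      _ = 1 := by rw [h3]; group

open scoped Classical in
/-- The action of the normalizer on the central involutions. -/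
noncomputable def actInvCenter (Y : Subgroup G) :
    normalizer (Y : Set G) →* MulAut (invCenter Y) where
  toFun n :=
    { toFun := fun e => ⟨n * e * (n : G)⁻¹, invCenter_conj n.2 e.2⟩
      invFun := fun e => ⟨(n : G)⁻¹ * e * n, by simpa using invCenter_conj (inv_mem n.2) e.2⟩
      left_inv := fun e => Subtype.ext (by simp [mul_assoc])
      right_inv := fun e => Subtype.ext (by simp [mul_assoc])
      map_mul' := fun e f => Subtype.ext (by simp [mul_assoc]) }
  map_one' := MulEquiv.ext fun e => Subtype.ext (by simp)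
  map_mul' m n := MulEquiv.ext fun e => Subtype.ext (by simp [mul_assoc])

theorem actInvCenter_apply {Y : Subgroup G} (n : normalizer (Y : Set G)) (e : invCenter Y) :
    (actInvCenter Y n e : G) = n * e * (n : G)⁻¹ := rfl

theorem mem_normalizer_of_invar [Finite G] {y : G} {Y : Subgroup G} (hy : SC y) (hY : Invar y Y) :
    y ∈ normalizer (Y : Set G) :=
  mem_normalizer_iff.mpr fun g => ⟨fun h => hY g h, fun h => hy.mem_of_conj_mem hY h⟩

variable [Finite G] {t a y : G}

theorem invCenter_mem (h : Cyc t a y) (ht : orderOf t = 2) :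
    t ∈ invCenter (centTwo t a) ∧ a ∈ invCenter (centTwo t a) :=
  ⟨⟨(self_mem_centTwo h ht).1, fun g hg => (mem_centTwo.mp hg).1, mul_self_of_orderOf ht⟩,
   ⟨(self_mem_centTwo h ht).2, fun g hg => (mem_centTwo.mp hg).2,
    mul_self_of_orderOf (h.orderOf_a ht)⟩⟩

/-- The set-up for the action of the normalizer on the central involutions. -/
theorem image_facts (hG : Hyp G) (ht : orderOf t = 2) (h : Cyc t a y) :
    ∃ hy : y ∈ normalizer (centTwo t a : Set G),
      (∀ n, actInvCenter (centTwo t a) n = 1 ↔ (n : G) ∈ centTwo t a) ∧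
      orderOf ((actInvCenter (centTwo t a)).rangeRestrict ⟨y, hy⟩) = 3 ∧
      (∀ g, Commute g ((actInvCenter (centTwo t a)).rangeRestrict ⟨y, hy⟩) →
        g ∈ zpowers ((actInvCenter (centTwo t a)).rangeRestrict ⟨y, hy⟩)) ∧
      (∀ e : invCenter (centTwo t a), e * (actInvCenter (centTwo t a)).range.subtype
          ((actInvCenter (centTwo t a)).rangeRestrict ⟨y, hy⟩) e *
        (actInvCenter (centTwo t a)).range.subtype ((actInvCenter (centTwo t a)).rangeRestrict ⟨y, hy⟩ *
          (actInvCenter (centTwo t a)).rangeRestrict ⟨y, hy⟩) e = 1) := by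
  set φ := actInvCenter (centTwo t a) with hφ
  have hsy := hG.sc y h.ord
  have hinv := h.invar ht
  have h3 := not_three_dvd_centTwo (a := a) hG ht
  have hy := mem_normalizer_of_invar hsy hinv
  obtain ⟨htE, haE⟩ := invCenter_mem h ht
  have hker : ∀ n, φ n = 1 ↔ (n : G) ∈ centTwo t a := by
    intro n
    constructor
    · intro hn
      have e1 := congrArg (fun ψ : MulAut (invCenter (centTwo t a)) => (ψ ⟨t, htE⟩ : G)) hn
      have e2 := congrArg (fun ψ : MulAut (invCenter (centTwo t a)) => (ψ ⟨a, haE⟩ : G)) hn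
      simp only [φ, actInvCenter_apply, MulAut.one_apply] at e1 e2
      exact mem_centTwo.mpr ⟨mul_inv_eq_iff_eq_mul.mp e1, mul_inv_eq_iff_eq_mul.mp e2⟩
    · intro hn
      refine MulEquiv.ext fun e => Subtype.ext ?_
      rw [actInvCenter_apply, MulAut.one_apply]
      exact mul_inv_eq_iff_eq_mul.mpr (e.2.2.1 _ hn)
  refine ⟨hy, hker, ?_, ?_, ?_⟩
  · have : Fact (Nat.Prime 3) := ⟨Nat.prime_three⟩
    refine orderOf_eq_prime ?_ fun e => ?_
    · rw [← map_pow]
      refine Subtype.ext ?_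
      show φ (⟨y, hy⟩ ^ 3) = 1
      rw [show (⟨y, hy⟩ : normalizer (centTwo t a : Set G)) ^ 3 = 1 from Subtype.ext hsy.cubed, map_one]
    · have hmem := (hker ⟨y, hy⟩).mp (congrArg Subtype.val e)
      exact hsy.not_mem h3 hmem
  · intro g hg
    obtain ⟨n, rfl⟩ := φ.rangeRestrict_surjective g
    have hcomm : φ (n * ⟨y, hy⟩ * n⁻¹ * ⟨y, hy⟩⁻¹) = 1 := by
      have e := congrArg Subtype.val hg.eq
      simp only [MonoidHom.coe_rangeRestrict, Subgroup.coe_mul] at e
      rw [map_mul, map_mul, map_mul, map_inv, map_inv, e]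
      group
    have hK := (hker _).mp hcomm
    obtain ⟨k, hk, hky⟩ := hsy.exists_conj_eq h3 hinv hK
    have hc : Commute (k⁻¹ * (n : G)) y := by
      refine mul_inv_eq_iff_eq_mul.mp ?_
      have e : (n : G) * y * (n : G)⁻¹ = k * y * k⁻¹ := by
        rw [hky]
        simp only [Subgroup.coe_mul, InvMemClass.coe_inv]
        group
      calc k⁻¹ * (n : G) * y * (k⁻¹ * (n : G))⁻¹ = k⁻¹ * ((n : G) * y * (n : G)⁻¹) * k := by group
        _ = y := by rw [e]; group
    obtain ⟨i, hi⟩ := mem_zpowers_iff.mp (hsy.cent _ hc)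
    refine mem_zpowers_iff.mpr ⟨i, ?_⟩
    have hkN : k ∈ normalizer (centTwo t a : Set G) := le_normalizer hk
    have e : n = ⟨k, hkN⟩ * (⟨y, hy⟩ : normalizer (centTwo t a : Set G)) ^ i :=
      Subtype.ext (by simp only [Subgroup.coe_mul, SubgroupClass.coe_zpow]; rw [hi]; group)
    rw [e, map_mul, map_zpow, show φ.rangeRestrict ⟨k, hkN⟩ = 1 from Subtype.ext ((hker _).mpr hk),
      one_mul]
  · intro e
    refine Subtype.ext ?_
    have := hsy.cube_rel h3 hinv e.2.1
    show (e : G) * (y * e * y⁻¹) * (y * (y * e * y⁻¹) * y⁻¹) = 1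
    exact this

theorem sq_eq_one_invCenter {Y : Subgroup G} (e : invCenter Y) : e ^ 2 = 1 :=
  Subtype.ext (by rw [SubgroupClass.coe_pow, pow_two]; exact e.2.2.2)

/-- If `a` is central in `C(t)` the only central involutions are `t, a, ta`. -/
theorem central_cases (hG : Hyp G) (ht : orderOf t = 2) (h : Cyc t a y)
    (hY : centTwo t a = centralizer ({t} : Set G)) {e : G} (he : orderOf e = 2)
    (hec : ∀ g ∈ centralizer ({t} : Set G), g * e = e * g) : e = t ∨ e = a ∨ e = t * a := by
  obtain ⟨hy, hker, hord, hcent, hxE⟩ := image_facts hG ht h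
  set Y := centTwo t a with hYdef
  set φ := actInvCenter Y with hφ
  obtain ⟨htE, haE⟩ := invCenter_mem h ht
  have heE : e ∈ invCenter Y := ⟨hY ▸ mem_centralizer_singleton_iff.mpr (hec t
    (mem_centralizer_singleton_iff.mpr rfl)).symm,
    fun g hg => hec g (hY ▸ hg), mul_self_of_orderOf he⟩
  have hfix : ∀ (n : normalizer (Y : Set G)) (z : invCenter Y), z ≠ 1 → φ n z = z → φ n = 1 := by
    intro n z hz hn
    have hzo : orderOf (z : G) = 2 := orderOf_eq_two z.2.2.2 fun hh => hz (Subtype.ext hh)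
    have hCz := hG.centralizer_eq ht hzo fun g hg => z.2.2.1 g (hY ▸ hg)
    refine (hker n).mpr (hY.ge ?_)
    rw [← hCz]
    exact mem_centralizer_singleton_iff.mpr (mul_inv_eq_iff_eq_mul.mp (congrArg Subtype.val hn))
  have hreg : ∀ (g : φ.range) (z : invCenter Y), z ≠ 1 → φ.range.subtype g z = z → g = 1 := by
    intro g z hz hg
    obtain ⟨n, rfl⟩ := φ.rangeRestrict_surjective g
    exact Subtype.ext (hfix n z hz hg)
  have hodd : Odd (Nat.card φ.range) := by
    rw [Nat.odd_iff]
    by_contra hne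
    have : Fact (Nat.Prime 2) := ⟨Nat.prime_two⟩
    obtain ⟨g, hg⟩ := exists_prime_orderOf_dvd_card' (G := φ.range) 2 (Nat.dvd_of_mod_eq_zero (by omega))
    have hg1 : g ≠ 1 := fun e' => by rw [e', orderOf_one] at hg; omega
    have hgg : ∀ z, φ.range.subtype g (φ.range.subtype g z) = z := fun z => by
      rw [← MulAut.mul_apply, ← map_mul, ← pow_two, ← hg, pow_orderOf_eq_one, map_one, MulAut.one_apply]
    refine hg1 (Subtype.ext (MulEquiv.ext fun z => ?_))
    by_contra hmov
    have hne' : z * φ.range.subtype g z ≠ 1 := fun h0 => hmov (by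
      calc φ.range.subtype g z = (z * z) * φ.range.subtype g z := by
            rw [← pow_two, sq_eq_one_invCenter, one_mul]
        _ = z := by rw [mul_assoc, h0, mul_one])
    exact hg1 (hreg g _ hne' (by rw [map_mul, hgg, mul_comm']))
  have hne : Nontrivial (invCenter Y) := ⟨⟨⟨t, htE⟩, 1, fun e' =>
    ne_one_of_orderOf ht (congrArg Subtype.val e')⟩⟩
  have hc3 := @card_eq_three φ.range (invCenter Y) _ _
    { (inferInstance : Group (invCenter Y)) with mul_comm := mul_comm' } _ φ.range.subtype hodd _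
    hord hcent hxE sq_eq_one_invCenter hne hreg
  -- an element moving `t` to `e`
  obtain ⟨g, hg⟩ := isConj_iff.mp (hG.conj t e ht he)
  have hCe := hG.centralizer_eq ht he hec
  have hgN : g ∈ normalizer (Y : Set G) := by
    rw [hY]
    refine mem_normalizer_iff.mpr fun z => ?_
    have key : z ∈ centralizer ({t} : Set G) ↔ g * z * g⁻¹ ∈ centralizer ({e} : Set G) := by
      rw [mem_centralizer_singleton_iff, mem_centralizer_singleton_iff, ← hg,
        show g * z * g⁻¹ = MulAut.conj g z from rfl, show g * t * g⁻¹ = MulAut.conj g t from rfl,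
        ← map_mul, ← map_mul, (MulAut.conj g).injective.eq_iff]
    rw [hCe] at key
    exact key
  have hzp : zpowers (φ.rangeRestrict ⟨y, hy⟩) = ⊤ :=
    Subgroup.eq_top_of_card_eq _ (by rw [Nat.card_zpowers, hord, hc3])
  obtain ⟨i, hi⟩ := mem_zpowers_iff.mp (hzp ▸ mem_top (φ.rangeRestrict ⟨g, hgN⟩))
  have hsy := hG.sc y h.ord
  have hgt : g * t * g⁻¹ = y ^ i * t * (y ^ i)⁻¹ := by
    have e1 := congrArg (fun ψ : φ.range => ((ψ : MulAut (invCenter Y)) ⟨t, htE⟩ : G)) hi
    simp only [← map_zpow, MonoidHom.coe_rangeRestrict, φ, actInvCenter_apply,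
      SubgroupClass.coe_zpow] at e1
    exact e1.symm
  rw [hg, ← zpow_mod_orderOf, h.ord] at hgt
  have h3 : i % ((3 : ℕ) : ℤ) = 0 ∨ i % ((3 : ℕ) : ℤ) = 1 ∨ i % ((3 : ℕ) : ℤ) = 2 := by omega
  rcases h3 with e' | e' | e' <;> rw [e'] at hgt
  · left; rw [hgt]; group
  · right; left; rw [hgt, zpow_one, h.fst]
  · right; right
    calc e = y * (y * t * y⁻¹) * y⁻¹ := by rw [hgt, zpow_two]; group
      _ = t * a := by rw [h.fst, h.snd]

section IndexTwo

variable (hG : Hyp G) (ht : orderOf t = 2) (h : Cyc t a y)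
  (hc2 : Nat.card (centralizer ({t} : Set G)) = 2 * Nat.card (centTwo t a))
include hG ht h hc2

theorem exists_not_mem : ∃ τ ∈ centralizer ({t} : Set G), τ ∉ centTwo t a := by
  by_contra hh
  push Not at hh
  have e : centTwo t a = centralizer ({t} : Set G) := le_antisymm centTwo_le hh
  rw [e] at hc2
  have : 0 < Nat.card (centralizer ({t} : Set G)) := Nat.card_pos
  omega

theorem centralizer_le_normalizer :
    centralizer ({t} : Set G) ≤ normalizer (centTwo t a : Set G) := by
  set C := centralizer ({t} : Set G)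
  set Y := centTwo t a
  have hidx : (Y.subgroupOf C).index = 2 := by
    have e := (Y.subgroupOf C).card_mul_index
    rw [Nat.card_congr (subgroupOfEquivOfLe (centTwo_le (t := t) (a := a))).toEquiv, hc2] at e
    exact Nat.eq_of_mul_eq_mul_left Nat.card_pos (by rw [e, mul_comm])
  exact (normal_subgroupOf_iff_le_normalizer centTwo_le).mp (normal_of_index_eq_two hidx)

theorem not_four_dvd_range : ¬ 4 ∣ Nat.card (actInvCenter (centTwo t a)).range := by
  intro h4
  obtain ⟨hy, hker, -⟩ := image_facts hG ht h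
  set φ := actInvCenter (centTwo t a) with hφ
  have : Fact (Nat.Prime 2) := ⟨Nat.prime_two⟩
  obtain ⟨P⟩ := (inferInstance : Nonempty (Sylow 2 G))
  -- the 2-part of `|G|` divides `|C(t)|`
  have hPc : Nat.card (P : Subgroup G) ∣ Nat.card (centralizer ({t} : Set G)) := by
    have h2 : 2 ∣ Nat.card G := ht ▸ orderOf_dvd_natCard t
    have hne : Nontrivial (P : Subgroup G) := by
      rw [← Finite.one_lt_card_iff_nontrivial, P.card_eq_multiplicity]
      refine lt_of_lt_of_le Nat.one_lt_two (Nat.le_self_pow ?_ 2)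
      exact (Nat.Prime.factorization_pos_of_dvd Nat.prime_two Nat.card_pos.ne' h2).ne'
    have hn2 : Nontrivial (center (P : Subgroup G)) := P.isPGroup'.center_nontrivial
    have hd : 2 ∣ Nat.card (center (P : Subgroup G)) := by
      obtain ⟨k, hk⟩ := IsPGroup.iff_card.mp (P.isPGroup'.to_subgroup (center (P : Subgroup G)))
      rcases Nat.eq_zero_or_pos k with rfl | hk0
      · rw [pow_zero] at hk
        exact absurd hk (Finite.one_lt_card_iff_nontrivial.mpr hn2).ne'
      · exact hk ▸ dvd_pow_self 2 hk0.ne'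
    obtain ⟨z, hz⟩ := exists_prime_orderOf_dvd_card' (G := center (P : Subgroup G)) 2 hd
    rw [← Subgroup.orderOf_coe, ← Subgroup.orderOf_coe] at hz
    rw [← hG.card_centralizer_eq hz ht]
    refine Subgroup.card_dvd_of_le fun g hg => mem_centralizer_singleton_iff.mpr ?_
    exact congrArg Subtype.val (mem_center_iff.mp z.2 ⟨g, hg⟩)
  have hM : Nat.card φ.range * Nat.card (centTwo t a) = Nat.card (normalizer (centTwo t a : Set G)) := by
    have e : φ.ker = (centTwo t a).subgroupOf (normalizer (centTwo t a : Set G)) := by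
      ext n; rw [MonoidHom.mem_ker, hker, mem_subgroupOf]
    rw [← Subgroup.index_ker, mul_comm, e,
      ← Nat.card_congr (subgroupOfEquivOfLe (le_normalizer (H := centTwo t a))).toEquiv,
      card_mul_index]
  have hdvd : 4 * Nat.card (centTwo t a) ∣ Nat.card G :=
    ((mul_dvd_mul_right h4 _).trans hM.dvd).trans (Subgroup.card_subgroup_dvd_card _)
  obtain ⟨k, hk⟩ := IsPGroup.iff_card.mp P.isPGroup'
  have hk' : (Nat.card G).factorization 2 = k :=
    Nat.pow_right_injective le_rfl (P.card_eq_multiplicity.symm.trans hk)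
  have h1 : k ≤ (Nat.card (centralizer ({t} : Set G))).factorization 2 :=
    (Nat.prime_two.pow_dvd_iff_le_factorization Nat.card_pos.ne').mp (hk ▸ hPc)
  have h2 := (Nat.factorization_le_iff_dvd (by have : 0 < Nat.card (centTwo t a) := Nat.card_pos; omega)
    Nat.card_pos.ne').mpr hdvd 2
  rw [Nat.factorization_mul (by norm_num) Nat.card_pos.ne', Finsupp.add_apply, hk',
    show (4 : ℕ) = 2 ^ 2 by norm_num, Nat.prime_two.factorization_pow, Finsupp.single_eq_same] at h2
  rw [hc2, Nat.factorization_mul two_ne_zero Nat.card_pos.ne', Finsupp.add_apply,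
    Nat.prime_two.factorization, Finsupp.single_eq_same] at h1
  omega

/-- An element normalizing `C(a, t)` and `C(t)` fixes `t`. -/
theorem fix_of_normalizes {g : G} (hgY : g ∈ normalizer (centTwo t a : Set G))
    (hgC : g ∈ normalizer (centralizer ({t} : Set G) : Set G)) : g * t * g⁻¹ = t := by
  obtain ⟨hy, hker, hord, hcent, hxE⟩ := image_facts hG ht h
  set Y := centTwo t a with hYdef
  set φ := actInvCenter Y with hφ
  obtain ⟨τ, hτC, hτY⟩ := exists_not_mem hG ht h hc2
  have hτN := centralizer_le_normalizer hG ht h hc2 hτC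
  have hτ2 : τ * τ ∈ Y := by
    by_contra hh
    have e := SC.mul_mem_of_index_two centTwo_le hc2 hτC hτY (mul_mem hτC hτC) hh
    rw [← mul_assoc, inv_mul_cancel, one_mul] at e
    exact hτY e
  set τ' := φ.rangeRestrict ⟨τ, hτN⟩ with hτ'
  have hτord : orderOf τ' = 2 := by
    have : Fact (Nat.Prime 2) := ⟨Nat.prime_two⟩
    refine orderOf_eq_prime ?_ fun e => hτY ((hker _).mp (congrArg Subtype.val e))
    rw [hτ', pow_two, ← map_mul]
    exact Subtype.ext ((hker _).mpr hτ2)
  have hfaith : Function.Injective φ.range.subtype := Subtype.val_injective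
  have hsame : ∀ n : normalizer (Y : Set G), (n : G) ∈ centralizer ({t} : Set G) →
      (n : G) ∉ Y → φ.rangeRestrict n = τ' := by
    intro n hnC hnY
    have hmem := SC.mul_mem_of_index_two centTwo_le hc2 hτC hτY hnC hnY
    have e : φ.rangeRestrict ((⟨τ, hτN⟩ : normalizer (Y : Set G))⁻¹ * n) = 1 :=
      Subtype.ext ((hker _).mpr hmem)
    rw [map_mul, map_inv, inv_mul_eq_one] at e
    exact e.symm
  have hstab : ∀ (g : φ.range) (z : invCenter Y), z ≠ 1 → φ.range.subtype τ' z = z →
      φ.range.subtype g z = z → g = 1 ∨ g = τ' := by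
    intro g' z hz hτz hgz
    obtain ⟨n, rfl⟩ := φ.rangeRestrict_surjective g'
    have hzo : orderOf (z : G) = 2 := orderOf_eq_two z.2.2.2 fun hh => hz (Subtype.ext hh)
    have hCz : centralizer ({(z : G)} : Set G) = centralizer ({t} : Set G) := by
      refine hG.centralizer_eq ht hzo fun c hcC => ?_
      by_cases hcY : c ∈ Y
      · exact z.2.2.1 c hcY
      · have hzτ : τ * (z : G) = z * τ := mul_inv_eq_iff_eq_mul.mp (congrArg Subtype.val hτz)
        have hmem := SC.mul_mem_of_index_two centTwo_le hc2 hτC hτY hcC hcY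
        have := (Commute.mul_left (show Commute τ (z : G) from hzτ) (z.2.2.1 _ hmem)).eq
        rwa [mul_inv_cancel_left] at this
    have hnC : (n : G) ∈ centralizer ({t} : Set G) := by
      rw [← hCz]
      exact mem_centralizer_singleton_iff.mpr (mul_inv_eq_iff_eq_mul.mp (congrArg Subtype.val hgz))
    by_cases hnY : (n : G) ∈ Y
    · exact Or.inl (Subtype.ext ((hker n).mpr hnY))
    · exact Or.inr (hsame n hnC hnY)
  have hcomm : Commute (φ.rangeRestrict ⟨g, hgY⟩) τ' := by
    have hmem : g * τ * g⁻¹ ∈ centralizer ({t} : Set G) := (mem_normalizer_iff.mp hgC τ).mp hτC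
    have hnot : g * τ * g⁻¹ ∉ Y := fun hh => hτY ((mem_normalizer_iff.mp hgY τ).mpr hh)
    have e := hsame ((⟨g, hgY⟩ : normalizer (Y : Set G)) * ⟨τ, hτN⟩ * (⟨g, hgY⟩)⁻¹) hmem hnot
    rw [map_mul, map_mul, map_inv, ← hτ'] at e
    exact mul_inv_eq_iff_eq_mul.mp e
  have hres := @eq_of_commute φ.range (invCenter Y) _ _
    { (inferInstance : Group (invCenter Y)) with mul_comm := mul_comm' } _ φ.range.subtype
    (not_four_dvd_range hG ht h hc2) _ hord hcent hxE sq_eq_one_invCenter hfaith τ' hτord hstab _ hcomm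
  refine mul_inv_eq_iff_eq_mul.mpr (mem_centralizer_singleton_iff.mp ?_)
  rcases hres with e | e
  · exact centTwo_le ((hker _).mp (congrArg Subtype.val e))
  · have hmem : τ⁻¹ * g ∈ Y := (hker (((⟨τ, hτN⟩ : normalizer (Y : Set G)))⁻¹ * ⟨g, hgY⟩)).mp
      (congrArg Subtype.val (show φ.rangeRestrict _ = 1 by rw [map_mul, map_inv, e, ← hτ', inv_mul_cancel]))
    have := mul_mem hτC (centTwo_le hmem)
    rwa [mul_inv_cancel_left] at this

/-- The only central involution of `C(t)` in `C(a, t)` is `t`. -/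
theorem fixed_cases {e : G} (heE : e ∈ invCenter (centTwo t a))
    (hec : ∀ g ∈ centralizer ({t} : Set G), g * e = e * g) : e = 1 ∨ e = t := by
  classical
  set C := centralizer ({t} : Set G) with hC
  set Y := centTwo t a with hY
  set E := invCenter Y with hE
  have hsy := hG.sc y h.ord
  have hinv := h.invar ht
  by_contra hne
  push Not at hne
  have heo := orderOf_eq_two heE.2.2 hne.1
  obtain ⟨g, hg⟩ := isConj_iff.mp (hG.conj t e ht heo)
  have hCe := hG.centralizer_eq ht heo hec
  have hgC : g ∈ normalizer (C : Set G) := by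
    refine mem_normalizer_iff.mpr fun z => ?_
    have key : z ∈ centralizer ({t} : Set G) ↔ g * z * g⁻¹ ∈ centralizer ({e} : Set G) := by
      rw [mem_centralizer_singleton_iff, mem_centralizer_singleton_iff, ← hg,
        show g * z * g⁻¹ = MulAut.conj g z from rfl, show g * t * g⁻¹ = MulAut.conj g t from rfl,
        ← map_mul, ← map_mul, (MulAut.conj g).injective.eq_iff]
    rw [hCe] at key
    exact key
  set Y' := Y.map (MulAut.conj g).toMonoidHom with hY'
  have hmemY' : ∀ z, z ∈ Y' ↔ g⁻¹ * z * g ∈ Y := fun z => by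
    constructor
    · rintro ⟨u, hu, rfl⟩
      have e' : g⁻¹ * ((MulAut.conj g).toMonoidHom u) * g = u := by
        show g⁻¹ * (g * u * g⁻¹) * g = u
        group
      rwa [e']
    · intro hz
      exact ⟨_, hz, by show g * (g⁻¹ * z * g) * g⁻¹ = z; group⟩
  have hgY : g ∉ normalizer (Y : Set G) := fun hh => by
    have := fix_of_normalizes hG ht h hc2 hh hgC
    exact hne.2 (hg.symm.trans this)
  have hY'C : Y' ≤ C := fun z hz => by
    have := (mem_normalizer_iff.mp hgC _).mp (centTwo_le ((hmemY' z).mp hz))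
    rwa [show g * (g⁻¹ * z * g) * g⁻¹ = z by group] at this
  have hcard' : Nat.card Y' = Nat.card Y :=
    Nat.card_congr (Y.equivMapOfInjective _ (MulAut.conj g).injective).toEquiv.symm
  obtain ⟨τ, hτY', hτY⟩ : ∃ τ ∈ Y', τ ∉ Y := by
    by_contra hh
    push Not at hh
    refine hgY (mem_normalizer_iff.mpr fun z => ?_)
    have heq : Y' = Y := eq_of_le_of_card_ge hh hcard'.ge
    constructor
    · intro hz
      exact heq ▸ ⟨z, hz, rfl⟩
    · intro hz
      have := (hmemY' _).mp (heq.symm ▸ hz)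
      rwa [show g⁻¹ * (g * z * g⁻¹) * g = z by group] at this
  -- the index of `Y ⊓ Y'` in `Y'`
  have hJ : Nat.card Y' = 2 * Nat.card (Y ⊓ Y' : Subgroup G) := by
    set J := (Y ⊓ Y').subgroupOf Y'
    have hidx : J.index = 2 := by
      rw [Subgroup.index_eq_two_iff]
      refine ⟨⟨τ, hτY'⟩, fun b => ?_⟩
      simp only [J, mem_subgroupOf, mem_inf, Subgroup.coe_mul]
      by_cases hb : (b : G) ∈ Y
      · refine Or.inr ⟨⟨hb, b.2⟩, fun hh => hτY ?_⟩
        have := Y.mul_mem (Y.inv_mem hb) hh.1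
        rwa [inv_mul_cancel_left] at this
      · refine Or.inl ⟨⟨?_, Y'.mul_mem b.2 hτY'⟩, fun hh => hb hh.1⟩
        have h1 : (b : G)⁻¹ ∉ Y := fun hh => hb (by simpa using Y.inv_mem hh)
        have := SC.mul_mem_of_index_two centTwo_le hc2 (inv_mem (hY'C b.2)) h1 (hY'C hτY') hτY
        rwa [inv_inv] at this
    have e' := J.card_mul_index
    rw [Nat.card_congr (subgroupOfEquivOfLe (inf_le_right : Y ⊓ Y' ≤ Y')).toEquiv, hidx] at e'
    omega
  have hsy' := hsy.conj g
  have hinv' : Invar (g * y * g⁻¹) Y' := fun z hz => (hmemY' _).mpr (by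
    rw [show g⁻¹ * (g * y * g⁻¹ * z * (g * y * g⁻¹)⁻¹) * g = y * (g⁻¹ * z * g) * y⁻¹ by group]
    exact hinv _ ((hmemY' z).mp hz))
  have h3' : ¬ 3 ∣ Nat.card Y' := hcard'.symm ▸ not_three_dvd_centTwo hG ht
  -- elements of `E ⊓ Y'` are central in `C`
  let E0 : Subgroup G := E ⊓ centralizer (C : Set G)
  have hEY' : E ⊓ Y' ≤ E0 := by
    intro z hz
    refine ⟨hz.1, mem_centralizer_iff.mpr fun c hc => ?_⟩
    by_cases hcY : c ∈ Y
    · exact hz.1.2.1 c hcY
    · have h1 : Commute τ z :=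
        hsy'.commute_of_index_two h3' hinv' inf_le_right hJ hz.2 hz.1.2.2
          (fun j hj => hz.1.2.1 j hj.1) τ hτY'
      have hmem := SC.mul_mem_of_index_two centTwo_le hc2 (hY'C hτY') hτY hc hcY
      have := (h1.mul_left (show Commute (τ⁻¹ * c) z from hz.1.2.1 _ hmem)).eq
      rwa [mul_inv_cancel_left] at this
  -- hence `|E| ≤ 2|E₀|`
  have h2 : Nat.card E ≤ 2 * Nat.card E0 := by
    refine le_trans ?_ (Nat.mul_le_mul_left 2 (card_le_of_le hEY'))
    by_cases hall : ∀ z ∈ E, z ∈ Y'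
    · have : E ⊓ Y' = E := inf_eq_left.mpr hall
      rw [this]; omega
    push Not at hall
    obtain ⟨z₀, hz₀, hz₀'⟩ := hall
    have hidx2 : ((E ⊓ Y').subgroupOf E).index ≤ 2 := by
      refine (Subgroup.index_eq_two_iff.mpr ⟨⟨z₀, hz₀⟩, fun b => ?_⟩).le
      simp only [mem_subgroupOf, mem_inf, Subgroup.coe_mul]
      by_cases hb : (b : G) ∈ Y'
      · refine Or.inr ⟨⟨b.2, hb⟩, fun hh => hz₀' ?_⟩
        have := Y'.mul_mem (Y'.inv_mem hb) hh.2
        rwa [inv_mul_cancel_left] at this
      · refine Or.inl ⟨⟨E.mul_mem b.2 hz₀, ?_⟩, fun hh => hb hh.2⟩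
        have h1 : (b : G)⁻¹ ∉ Y' := fun hh => hb (by simpa using Y'.inv_mem hh)
        have := SC.mul_mem_of_index_two hY'C (hcard'.symm ▸ hc2) (inv_mem (centTwo_le b.2.1)) h1
          (centTwo_le hz₀.1) hz₀'
        rwa [inv_inv] at this
    have e' := ((E ⊓ Y').subgroupOf E).card_mul_index
    rw [Nat.card_congr (subgroupOfEquivOfLe (inf_le_left : E ⊓ Y' ≤ E)).toEquiv] at e'
    calc Nat.card E = _ := e'.symm
      _ ≤ Nat.card (E ⊓ Y' : Subgroup G) * 2 := Nat.mul_le_mul_left _ hidx2
      _ = _ := mul_comm _ _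
  -- `E₀` meets its conjugate by `y` trivially
  have htriv : ∀ z ∈ E0, y⁻¹ * z * y ∈ E0 → z = 1 := by
    intro z hz hz'
    by_contra hz1
    have hzo := orderOf_eq_two hz.1.2.2 hz1
    have hCz := hG.centralizer_eq ht hzo fun c hc => mem_centralizer_iff.mp hz.2 c hc
    have hzo' : orderOf (y⁻¹ * z * y) = 2 := by
      rw [show y⁻¹ * z * y = MulAut.conj y⁻¹ z by simp, MulEquiv.orderOf_eq, hzo]
    have hCz' := hG.centralizer_eq ht hzo' fun c hc => mem_centralizer_iff.mp hz'.2 c hc
    refine hsy.false_of_index_two (hG.not_three_dvd ht) centTwo_le (fun c hc => ?_) hinv hc2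
    have hc' : c ∈ centralizer ({y⁻¹ * z * y} : Set G) := by rw [hCz']; exact hc
    rw [← hCz]
    refine mem_centralizer_singleton_iff.mpr ?_
    have hce := mem_centralizer_singleton_iff.mp hc'
    calc y * c * y⁻¹ * z = y * (c * (y⁻¹ * z * y)) * y⁻¹ := by group
      _ = y * (y⁻¹ * z * y * c) * y⁻¹ := by rw [hce]
      _ = _ := by group
  have hsq : Nat.card E0 * Nat.card E0 ≤ Nat.card E := by
    rw [← Nat.card_prod]
    refine Nat.card_le_card_of_injective (fun p : E0 × E0 =>
      (⟨(p.1 : G) * (y * (p.2 : G) * y⁻¹), E.mul_mem p.1.2.1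
        (invCenter_conj (mem_normalizer_of_invar hsy hinv) p.2.2.1)⟩ : E)) fun p q hpq => ?_
    have e' : (p.1 : G) * (y * (p.2 : G) * y⁻¹) = q.1 * (y * (q.2 : G) * y⁻¹) := congrArg Subtype.val hpq
    have e2 : (q.1 : G)⁻¹ * p.1 = y * ((q.2 : G) * (p.2 : G)⁻¹) * y⁻¹ := by
      calc (q.1 : G)⁻¹ * p.1
          = (q.1 : G)⁻¹ * ((p.1 : G) * (y * (p.2 : G) * y⁻¹)) * (y * (p.2 : G) * y⁻¹)⁻¹ := by group
        _ = _ := by rw [e']; group
    have h1 : (q.1 : G)⁻¹ * p.1 = 1 := htriv _ (E0.mul_mem (E0.inv_mem q.1.2) p.1.2) (by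
      rw [e2, show y⁻¹ * (y * ((q.2 : G) * (p.2 : G)⁻¹) * y⁻¹) * y = (q.2 : G) * (p.2 : G)⁻¹ by group]
      exact E0.mul_mem q.2.2 (E0.inv_mem p.2.2))
    have h2' : (p.1 : G) = q.1 := (inv_mul_eq_one.mp h1).symm
    rw [h2'] at e'
    exact Prod.ext (Subtype.ext h2') (Subtype.ext (mul_left_cancel (mul_right_cancel (mul_left_cancel e'))))
  -- so `E₀ = {1, t}`
  have hle2 : Nat.card E0 ≤ 2 := by
    have := hsq.trans h2
    exact Nat.le_of_mul_le_mul_right this Nat.card_pos
  have htE0 : t ∈ E0 := ⟨(invCenter_mem h ht).1,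
    mem_centralizer_iff.mpr fun c hc => mem_centralizer_singleton_iff.mp hc⟩
  have heE0 : e ∈ E0 := ⟨heE, mem_centralizer_iff.mpr hec⟩
  have : 3 ≤ Nat.card E0 := by
    have hsub : ({1, t, e} : Finset G) ⊆ (Set.toFinite (E0 : Set G)).toFinset := by
      intro z hz
      simp only [Finset.mem_insert, Finset.mem_singleton] at hz
      rw [Set.Finite.mem_toFinset]
      rcases hz with rfl | rfl | rfl
      exacts [E0.one_mem, htE0, heE0]
    have hc := Finset.card_le_card hsub
    rw [Finset.card_insert_of_notMem (by simp [(ne_one_of_orderOf ht).symm, hne.1.symm]),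
      Finset.card_pair (fun hh => hne.2 hh.symm), ← Set.ncard_eq_toFinset_card _,
      ← Nat.card_coe_set_eq] at hc
    exact hc
  omega

/-- The central involutions of `C(a, t)` are `t, a, ta`. -/
theorem invCenter_cases {e : G} (heE : e ∈ invCenter (centTwo t a)) :
    e = 1 ∨ e = t ∨ e = a ∨ e = t * a := by
  obtain ⟨htE, haE⟩ := invCenter_mem h ht
  obtain ⟨τ, hτC, hτY⟩ := exists_not_mem hG ht h hc2
  have hτN := centralizer_le_normalizer hG ht h hc2 hτC
  have hτ2 : ∀ z ∈ invCenter (centTwo t a), τ * (τ * z * τ⁻¹) * τ⁻¹ = z := by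
    intro z hz
    have hmem : τ * τ ∈ centTwo t a := by
      by_contra hh
      have e' := SC.mul_mem_of_index_two centTwo_le hc2 hτC hτY (mul_mem hτC hτC) hh
      rw [← mul_assoc, inv_mul_cancel, one_mul] at e'
      exact hτY e'
    calc τ * (τ * z * τ⁻¹) * τ⁻¹ = (τ * τ) * z * (τ * τ)⁻¹ := by group
      _ = z := mul_inv_eq_iff_eq_mul.mpr (hz.2.1 _ hmem)
  have key : ∀ z ∈ invCenter (centTwo t a), τ * z * τ⁻¹ = z → z = 1 ∨ z = t := by
    intro z hz hzτ
    refine fixed_cases hG ht h hc2 hz fun c hc => ?_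
    by_cases hcY : c ∈ centTwo t a
    · exact hz.2.1 c hcY
    · have hmem := SC.mul_mem_of_index_two centTwo_le hc2 hτC hτY hc hcY
      have := (Commute.mul_left (show Commute τ z from mul_inv_eq_iff_eq_mul.mp hzτ)
        (show Commute (τ⁻¹ * c) z from hz.2.1 _ hmem)).eq
      rwa [mul_inv_cancel_left] at this
  have hmap : ∀ z ∈ invCenter (centTwo t a), z * (τ * z * τ⁻¹) = 1 ∨ z * (τ * z * τ⁻¹) = t := by
    intro z hz
    have hz' := invCenter_conj hτN hz
    refine key _ (Subgroup.mul_mem _ hz hz') ?_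
    calc τ * (z * (τ * z * τ⁻¹)) * τ⁻¹ = (τ * z * τ⁻¹) * (τ * (τ * z * τ⁻¹) * τ⁻¹) := by group
      _ = _ := by rw [hτ2 z hz]; exact hz.2.1 _ hz'.1
  have hta : τ * a * τ⁻¹ = t * a := by
    rcases hmap a haE with e' | e'
    · exfalso
      have hfix : τ * a * τ⁻¹ = a := by
        calc τ * a * τ⁻¹ = a⁻¹ * (a * (τ * a * τ⁻¹)) := by group
          _ = a := by rw [e', mul_one, inv_eq_of_mul_eq_one_right haE.2.2]
      rcases key a haE hfix with h' | h'
      · exact ne_one_of_orderOf (h.orderOf_a ht) h'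
      · exact h.ne hG ht h'
    · calc τ * a * τ⁻¹ = a⁻¹ * (a * (τ * a * τ⁻¹)) := by group
        _ = a * t := by rw [e', inv_eq_of_mul_eq_one_right haE.2.2]
        _ = t * a := (h.commute ht).eq.symm
  have hz0 : ∀ z ∈ invCenter (centTwo t a), z * (τ * z * τ⁻¹) = 1 → z = 1 ∨ z = t := by
    intro z hz hz1
    refine key z hz ?_
    calc τ * z * τ⁻¹ = z⁻¹ * (z * (τ * z * τ⁻¹)) := by group
      _ = z := by rw [hz1, mul_one, inv_eq_of_mul_eq_one_right hz.2.2]
  rcases hmap e heE with e' | e'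
  · rcases hz0 e heE e' with h' | h'
    · exact Or.inl h'
    · exact Or.inr (Or.inl h')
  · have hea : e * a ∈ invCenter (centTwo t a) := Subgroup.mul_mem _ heE haE
    have h1 : e * a * (τ * (e * a) * τ⁻¹) = 1 := by
      have hce : a * (τ * e * τ⁻¹) = (τ * e * τ⁻¹) * a := (invCenter_conj hτN heE).2.1 a haE.1
      calc e * a * (τ * (e * a) * τ⁻¹) = e * (a * (τ * e * τ⁻¹)) * (τ * a * τ⁻¹) := by group
        _ = (e * (τ * e * τ⁻¹)) * (a * (t * a)) := by rw [hce, hta]; simp only [mul_assoc]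
        _ = t * t := by
          rw [e', ← mul_assoc a, ← (h.commute ht).eq, mul_assoc, haE.2.2, mul_one]
        _ = 1 := mul_self_of_orderOf ht
    rcases hz0 _ hea h1 with h' | h'
    · right; right; left
      calc e = e * a * a := by rw [mul_assoc, haE.2.2, mul_one]
        _ = a := by rw [h', one_mul]
    · right; right; right
      calc e = e * a * a := by rw [mul_assoc, haE.2.2, mul_one]
        _ = t * a := by rw [h']

/-- A second good element with centralizer of index two gives `|C(t)| = 8`. -/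
theorem index_two_cases {b z : G} (hb : Cyc t b z)
    (hb2 : Nat.card (centralizer ({t} : Set G)) = 2 * Nat.card (centTwo t b)) :
    b = a ∨ b = t * a ∨ Nat.card (centralizer ({t} : Set G)) ≤ 8 := by
  classical
  set C := centralizer ({t} : Set G) with hC
  set Y := centTwo t a with hY
  have hsy := hG.sc y h.ord
  have hinv := h.invar ht
  have h3 := not_three_dvd_centTwo (a := a) hG ht
  have hbo := hb.orderOf_a ht
  by_cases hbY : b ∈ Y
  · have hcent : ∀ g ∈ Y, Commute g b := by
      by_cases hall : ∀ g ∈ Y, g ∈ centTwo t b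
      · exact fun g hg => (mem_centTwo.mp (hall g hg)).2
      push Not at hall
      obtain ⟨g₀, hg₀, hg₀'⟩ := hall
      refine hsy.commute_of_index_two h3 hinv (J := Y ⊓ centTwo t b) inf_le_left ?_ hbY
        (mul_self_of_orderOf hbo) fun g hg => (mem_centTwo.mp hg.2).2
      set J := (Y ⊓ centTwo t b).subgroupOf Y
      have hidx : J.index = 2 := by
        rw [Subgroup.index_eq_two_iff]
        refine ⟨⟨g₀, hg₀⟩, fun x => ?_⟩
        simp only [J, mem_subgroupOf, mem_inf, Subgroup.coe_mul]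
        by_cases hx : (x : G) ∈ centTwo t b
        · refine Or.inr ⟨⟨x.2, hx⟩, fun hh => hg₀' ?_⟩
          have := (centTwo t b).mul_mem ((centTwo t b).inv_mem hx) hh.2
          rwa [inv_mul_cancel_left] at this
        · refine Or.inl ⟨⟨Y.mul_mem x.2 hg₀, ?_⟩, fun hh => hx hh.2⟩
          have h1 : (x : G)⁻¹ ∉ centTwo t b := fun hh => hx (by simpa using (centTwo t b).inv_mem hh)
          have := SC.mul_mem_of_index_two centTwo_le hb2 (inv_mem (centTwo_le x.2)) h1
            (centTwo_le hg₀) hg₀'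
          rwa [inv_inv] at this
      have e' := J.card_mul_index
      rw [Nat.card_congr (subgroupOfEquivOfLe (inf_le_left : Y ⊓ centTwo t b ≤ Y)).toEquiv, hidx] at e'
      exact e'.symm.trans (mul_comm _ _)
    rcases invCenter_cases hG ht h hc2 (e := b) ⟨hbY, fun g hg => (hcent g hg).eq,
      mul_self_of_orderOf hbo⟩ with e | e | e | e
    · exact absurd e (ne_one_of_orderOf hbo)
    · exact absurd e (hb.ne hG ht)
    · exact Or.inl e
    · exact Or.inr (Or.inl e)
  right; right
  -- every element of `C(t)` sends `b` to `b` or `tb`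
  have hswap : ∀ g ∈ C, g * b * g⁻¹ = b ∨ g * b * g⁻¹ = t * b := by
    intro g hg
    by_cases hgb : g ∈ centTwo t b
    · exact Or.inl (mul_inv_eq_iff_eq_mul.mpr (mem_centTwo.mp hgb).2)
    have hgN := centralizer_le_normalizer hG ht hb hb2 hg
    rcases invCenter_cases hG ht hb hb2 (invCenter_conj hgN (invCenter_mem hb ht).2) with e | e | e | e
    · exact absurd (conj_eq_one_iff.mp e) (ne_one_of_orderOf hbo)
    · have e2 : b = g⁻¹ * t * g := by rw [← e]; group
      have : g⁻¹ * t * g = t := by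
        rw [mul_assoc, ← mem_centralizer_singleton_iff.mp hg, inv_mul_cancel_left]
      exact absurd (e2.trans this) (hb.ne hG ht)
    · exact Or.inl e
    · exact Or.inr e
  have hbb := mul_self_of_orderOf hbo
  have hbi : b⁻¹ = b := inv_eq_of_mul_eq_one_right hbb
  have htt := mul_self_of_orderOf ht
  have hbC : b ∈ C := centTwo_le (self_mem_centTwo hb ht).2
  obtain ⟨htE, haE⟩ := invCenter_mem h ht
  have hbN := centralizer_le_normalizer hG ht h hc2 hbC
  have hbt : b * t * b⁻¹ = t := mul_inv_eq_iff_eq_mul.mpr (hb.commute ht).eq.symm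
  -- `b` sends `a` to `ta`
  have hba : b * a * b⁻¹ = t * a := by
    rcases invCenter_cases hG ht h hc2 (invCenter_conj hbN haE) with e | e | e | e
    · exact absurd (conj_eq_one_iff.mp e) (ne_one_of_orderOf (h.orderOf_a ht))
    · have : a = t := by
        calc a = b⁻¹ * (b * a * b⁻¹) * b := by group
          _ = b⁻¹ * (b * t * b⁻¹) * b := by rw [e, hbt]
          _ = t := by group
      exact absurd this (h.ne hG ht)
    · refine absurd (mem_centTwo.mpr ⟨(hb.commute ht).eq.symm, ?_⟩) hbY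
      exact mul_inv_eq_iff_eq_mul.mp e
    · exact e
  have hmod : ∀ g ∈ Y, b * g * b⁻¹ = g ∨ b * g * b⁻¹ = g * t := by
    intro g hg
    have hgt : Commute g t := (mem_centTwo.mp hg).1
    have hbt' : Commute t b := hb.commute ht
    rcases hswap g (centTwo_le hg) with e | e
    · exact Or.inl (mul_inv_eq_iff_eq_mul.mpr (mul_inv_eq_iff_eq_mul.mp e).symm)
    · right
      have e2 : g * b = t * b * g := mul_inv_eq_iff_eq_mul.mp e
      have e3 : b * g = t * (g * b) := by
        rw [e2]; simp only [← mul_assoc, htt, one_mul]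
      calc b * g * b⁻¹ = t * (g * b) * b⁻¹ := by rw [e3]
        _ = t * g := by group
        _ = g * t := hgt.eq.symm
  -- the conjugate of `y` by `b` inverts the cycle
  set z' := b * y * b⁻¹ with hz'
  have hz'a : z' * a * z'⁻¹ = t := by
    calc z' * a * z'⁻¹ = b * (y * (b⁻¹ * a * b) * y⁻¹) * b⁻¹ := by rw [hz']; group
      _ = b * (y * (b * a * b⁻¹) * y⁻¹) * b⁻¹ := by rw [hbi]
      _ = t := by rw [hba, h.thd ht, hbt]
  have hz't : z' * t * z'⁻¹ = t * a := by
    have hbt2 : b⁻¹ * t * b = t := by rw [mul_assoc, (hb.commute ht).eq, inv_mul_cancel_left]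
    calc z' * t * z'⁻¹ = b * (y * (b⁻¹ * t * b) * y⁻¹) * b⁻¹ := by rw [hz']; group
      _ = t * a := by rw [hbt2, h.fst, hba]
  have hcycz : Cyc t (t * a) z' := by
    refine ⟨by rw [hz', show b * y * b⁻¹ = MulAut.conj b y from rfl, MulEquiv.orderOf_eq, h.ord], hz't, ?_⟩
    calc z' * (t * a) * z'⁻¹ = (z' * t * z'⁻¹) * (z' * a * z'⁻¹) := by group
      _ = t * a * t := by rw [hz't, hz'a]
      _ = t * (t * a) := by rw [mul_assoc, ← (h.commute ht).eq]
  have hq : z' * y ∈ Y := by
    refine mem_centTwo.mpr ⟨mul_inv_eq_iff_eq_mul.mp ?_, mul_inv_eq_iff_eq_mul.mp ?_⟩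
    · calc z' * y * t * (z' * y)⁻¹ = z' * (y * t * y⁻¹) * z'⁻¹ := by group
        _ = t := by rw [h.fst, hz'a]
    · calc z' * y * a * (z' * y)⁻¹ = z' * (y * a * y⁻¹) * z'⁻¹ := by group
        _ = (z' * t * z'⁻¹) * (z' * a * z'⁻¹) := by rw [h.snd]; group
        _ = t * a * t := by rw [hz't, hz'a]
        _ = a := by rw [(h.commute ht).eq, mul_assoc, htt, mul_one]
  -- `q = y⁻¹ z'` acts trivially on `Y / E`
  set E := invCenter Y with hE
  have hk' : y⁻¹ * (z' * y) * y ∈ Y := hsy.invar_inv hinv hq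
  have hqk : y⁻¹ * z' = y⁻¹ * (z' * y) * y * y := by
    calc y⁻¹ * z' = y⁻¹ * z' * y ^ 3 := by rw [hsy.cubed, mul_one]
      _ = _ := by simp only [pow_three, mul_assoc]
  set q := y⁻¹ * z' with hqdef
  have hsq : SC q := by
    obtain ⟨g, -, hg⟩ := hsy.exists_conj_eq h3 hinv hk'
    rw [hqk, ← hg]
    exact hsy.conj g
  have hqN : q ∈ normalizer (Y : Set G) := by
    rw [hqk]
    exact mul_mem (le_normalizer hk') (mem_normalizer_of_invar hsy hinv)
  have hqE : ∀ g ∈ Y, g⁻¹ * (q * g * q⁻¹) ∈ E := by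
    intro g hg
    have hu : y * g * y⁻¹ ∈ Y := hinv g hg
    have hrel : b * (y * g * y⁻¹) * b⁻¹ = z' * (b * g * b⁻¹) * z'⁻¹ := by rw [hz']; group
    have htaE : z' * t * z'⁻¹ ∈ E := by rw [hz't]; exact E.mul_mem htE haE
    have hE1 : (y * g * y⁻¹)⁻¹ * (z' * g * z'⁻¹) ∈ E := by
      rcases hmod _ hu with e | e <;> rcases hmod g hg with e' | e' <;> rw [e, e'] at hrel
      · rw [← hrel, inv_mul_cancel]; exact E.one_mem
      · have e2 : z' * g * z'⁻¹ = (y * g * y⁻¹) * (z' * t * z'⁻¹)⁻¹ := by rw [hrel]; group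
        rw [e2, inv_mul_cancel_left]; exact E.inv_mem htaE
      · rw [← hrel, inv_mul_cancel_left]; exact htE
      · have e2 : z' * g * z'⁻¹ = (y * g * y⁻¹) * (t * (z' * t * z'⁻¹)⁻¹) := by
          rw [← mul_assoc, hrel]; group
        rw [e2, inv_mul_cancel_left]; exact E.mul_mem htE (E.inv_mem htaE)
    have hy' : y⁻¹ ∈ normalizer (Y : Set G) := inv_mem (mem_normalizer_of_invar hsy hinv)
    have := invCenter_conj hy' hE1
    rwa [show y⁻¹ * ((y * g * y⁻¹)⁻¹ * (z' * g * z'⁻¹)) * y⁻¹⁻¹ = g⁻¹ * (q * g * q⁻¹) by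
      rw [hqdef]; group] at this
  have hYE : Y ≤ E := by
    intro g hg
    have hcard : ((fun e => g * e) '' (E : Set G)).ncard = Nat.card E := by
      rw [Set.ncard_image_of_injective _ (mul_right_injective g), ← Nat.card_coe_set_eq]; rfl
    obtain ⟨w, ⟨e, he, rfl⟩, hc⟩ := hsq.exists_fixed ((fun e => g * e) '' (E : Set G))
      (by
        rintro w ⟨e, he, rfl⟩
        refine ⟨(g⁻¹ * (q * g * q⁻¹)) * (q * e * q⁻¹),
          E.mul_mem (hqE g hg) (invCenter_conj hqN he), ?_⟩
        show g * (g⁻¹ * (q * g * q⁻¹) * (q * e * q⁻¹)) = q * (g * e) * q⁻¹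
        group)
      (by rw [hcard]; exact fun h' => h3 (h'.trans (Subgroup.card_dvd_of_le fun z hz => hz.1)))
    have h1 : g * e = 1 := hsq.eq_one_of_commute h3 (Y.mul_mem hg he.1) hc
    rw [mul_eq_one_iff_eq_inv.mp h1]
    exact E.inv_mem he
  have h4 : Nat.card E ≤ 4 := by
    have hsub : (Set.toFinite (E : Set G)).toFinset ⊆ ({1, t, a, t * a} : Finset G) := by
      intro w hw
      rw [Set.Finite.mem_toFinset] at hw
      simpa using invCenter_cases hG ht h hc2 hw
    have := (Finset.card_le_card hsub).trans Finset.card_le_four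
    rwa [← Set.ncard_eq_toFinset_card _, ← Nat.card_coe_set_eq] at this
  rw [hc2]
  have := (card_le_of_le hYE).trans h4
  omega

end IndexTwo

end Cfsg.Agent.SelfCentThree
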