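import Cfsg.Agent.Lib.SelfCentThree.Pairs
import Cfsg.Agent.Lib.Signalizer.PAction

/-!
# The bound when no centralizer of a good pair contains another involution

`card_pair_le_of_small` : then there are at most `2 |C(t)|` pairs.
-/

set_option autoImplicit false
set_option linter.unusedSectionVars false

namespace Cfsg.Agent.SelfCentThree

open Subgroup

variable {G : Type*} [Group G] [Finite G] {t : G}

/-- `a ∈ T` and some 3-cycle on `t, a, ta` normalizes `T ⊓ C(t, a)`. -/
def Placed (t : G) (T : Subgroup G) (a : G) : Prop :=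
  a ∈ T ∧ ∃ y, Cyc t a y ∧ Invar y (T ⊓ centTwo t a)

/-- The centralizers of good pairs contain no other involutions. -/
def SmallCent (t : G) : Prop :=
  ∀ a, Good t a → ∀ w ∈ centTwo t a, w * w = 1 → w = 1 ∨ w = t ∨ w = a ∨ w = t * a

theorem exists_placed (hG : Hyp G) (ht : orderOf t = 2) {T : Subgroup G}
    (hTconj : ∀ P : Subgroup G, IsPGroup 2 P → P ≤ centralizer ({t} : Set G) →
      ∃ h ∈ centralizer ({t} : Set G), ∀ p ∈ P, h * p * h⁻¹ ∈ T)
    (hT : IsPGroup 2 T) {a : G} (ha : Good t a) :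
    ∃ h ∈ centralizer ({t} : Set G), Placed t T (h * a * h⁻¹) := by
  obtain ⟨y, hy⟩ := ha
  have : Fact (Nat.Prime 2) := ⟨Nat.prime_two⟩
  have : Fact (Nat.Prime 3) := ⟨Nat.prime_three⟩
  have hsy := hG.sc y hy.ord
  set Y := centTwo t a with hY
  have hA : IsPGroup 3 (zpowers y) := IsPGroup.of_card (n := 1) (by rw [Nat.card_zpowers, hy.ord, pow_one])
  have hinv := hy.invar ht
  have hAY : zpowers y ≤ normalizer (Y : Set G) := zpowers_le.mpr (mem_normalizer_iff.mpr
    fun g => ⟨fun hg => hinv g hg, fun hg => hsy.mem_of_conj_mem hinv hg⟩)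
  obtain ⟨S, hS, hAS⟩ := Signalizer.exists_invariant_sylow (q := 2) hA Y
    (not_three_dvd_centTwo hG ht) hAY
  have haY : a ∈ Y := (self_mem_centTwo hy ht).2
  have haS : a ∈ S := by
    have hZ : IsPGroup 2 (zpowers a) :=
      IsPGroup.of_card (n := 1) (by rw [Nat.card_zpowers, hy.orderOf_a ht, pow_one])
    have hcn : zpowers a ≤ normalizer (S : Set G) := by
      refine zpowers_le.mpr (mem_normalizer_iff.mpr fun g => ?_)
      have key : ∀ g ∈ Y, a * g * a⁻¹ = g := fun g hg =>
        mul_inv_eq_iff_eq_mul.mpr (mem_centTwo.mp hg).2.symm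
      constructor
      · intro hg; rw [key g (hS.1 hg)]; exact hg
      · intro hg
        have hgY : g ∈ Y := by
          have := Y.mul_mem (Y.mul_mem (Y.inv_mem haY) (hS.1 hg)) haY
          rwa [show a⁻¹ * (a * g * a⁻¹) * a = g by group] at this
        rwa [key g hgY] at hg
    have h1 : IsPGroup 2 ↥(zpowers a ⊔ S) := hZ.to_sup_of_normal_right' hS.2.1 hcn
    have h2 := hS.eq_of_le le_sup_right (sup_le (zpowers_le.mpr haY) hS.1) h1
    exact h2 ▸ le_sup_left (b := S) (mem_zpowers a)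
  obtain ⟨h, hh, hhS⟩ := hTconj S hS.2.1 (hS.1.trans centTwo_le)
  refine ⟨h, hh, hhS a haS, h * y * h⁻¹, hy.conj hh, fun g hg => ?_⟩
  have hht : h * t = t * h := mem_centralizer_singleton_iff.mp hh
  have hmemY : ∀ z, z ∈ centTwo t (h * a * h⁻¹) → h⁻¹ * z * h ∈ Y := fun z hz => by
    obtain ⟨h1, h2⟩ := mem_centTwo.mp hz
    refine mem_centTwo.mpr ⟨?_, ?_⟩
    · calc h⁻¹ * z * h * t = h⁻¹ * z * (h * t) := by group
        _ = h⁻¹ * (z * t) * h := by rw [hht]; group
        _ = h⁻¹ * (t * z) * h := by rw [h1]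
        _ = h⁻¹ * t * h * (h⁻¹ * z * h) := by group
        _ = t * (h⁻¹ * z * h) := by rw [mul_assoc h⁻¹ t h, ← hht, inv_mul_cancel_left]
    · calc h⁻¹ * z * h * a = h⁻¹ * (z * (h * a * h⁻¹)) * h := by group
        _ = h⁻¹ * ((h * a * h⁻¹) * z) * h := by rw [h2]
        _ = _ := by group
  set U := (T ⊓ centTwo t (h * a * h⁻¹)).map (MulAut.conj h⁻¹).toMonoidHom with hU
  have hmemU : ∀ z ∈ T ⊓ centTwo t (h * a * h⁻¹), h⁻¹ * z * h ∈ U := fun z hz =>
    ⟨z, hz, by show h⁻¹ * z * h⁻¹⁻¹ = _; rw [inv_inv]⟩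
  have hSU : S ≤ U := by
    intro s hs
    have hs2 : h * s * h⁻¹ ∈ centTwo t (h * a * h⁻¹) := by
      refine mem_centTwo.mpr ⟨mem_centralizer_singleton_iff.mp
        (mul_mem (mul_mem hh (centTwo_le (hS.1 hs))) (inv_mem hh)), ?_⟩
      calc h * s * h⁻¹ * (h * a * h⁻¹) = h * (s * a) * h⁻¹ := by group
        _ = h * (a * s) * h⁻¹ := by rw [(mem_centTwo.mp (hS.1 hs)).2]
        _ = _ := by group
    have := hmemU _ ⟨hhS s hs, hs2⟩
    rwa [show h⁻¹ * (h * s * h⁻¹) * h = s by group] at this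
  have hUY : U ≤ Y := by
    rintro _ ⟨z, hz, rfl⟩
    show h⁻¹ * z * h⁻¹⁻¹ ∈ Y
    rw [inv_inv]
    exact hmemY z hz.2
  have hUS : U = S := hS.eq_of_le hSU hUY ((hT.to_le inf_le_left).map _)
  have hgS : h⁻¹ * g * h ∈ S := hUS ▸ hmemU g hg
  have e : h * y * h⁻¹ * g * (h * y * h⁻¹)⁻¹ = h * (y * (h⁻¹ * g * h) * y⁻¹) * h⁻¹ := by group
  refine ⟨?_, ?_⟩
  · rw [e]
    exact hhS _ ((mem_normalizer_iff.mp (hAS (mem_zpowers y)) _).mp hgS)
  · exact (hy.conj hh).invar ht g hg.2

variable {T : Subgroup G}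

theorem squares_false (hsmall : SmallCent t) (ht : orderOf t = 2) {a y : G} (hy : Cyc t a y)
    {S J : Subgroup G} (hT : IsPGroup 2 S) (hinv : Invar y S) (hSY : S ≤ centTwo t a)
    (hbig : ∃ g ∈ S, g * g ≠ 1) (hJ : ∀ g ∈ S, g * g ∈ J) (haJ : a ∉ J) : False := by
  obtain ⟨g, hgS, hg2⟩ := hbig
  obtain ⟨k, hk⟩ := IsPGroup.iff_orderOf.mp hT ⟨g, hgS⟩
  rw [← Subgroup.orderOf_coe] at hk
  have hk2 : 2 ≤ k := by
    by_contra h
    apply hg2
    have hd : orderOf g ∣ 2 := hk ▸ pow_dvd_pow 2 (show k ≤ 1 by omega)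
    rw [← pow_two]
    exact orderOf_dvd_iff_pow_eq_one.mp hd
  set h := g ^ 2 ^ (k - 2) with hh
  have hhS : h ∈ S := S.pow_mem hgS _
  have hpow : h ^ 4 = 1 := by
    rw [hh, ← pow_mul, show 2 ^ (k - 2) * 4 = 2 ^ k by
      rw [show (4 : ℕ) = 2 ^ 2 by norm_num, ← pow_add]; congr 1; omega]
    exact hk ▸ pow_orderOf_eq_one g
  have hne : h * h ≠ 1 := by
    intro e
    rw [← pow_two, hh, ← pow_mul] at e
    have hd := orderOf_dvd_of_pow_eq_one e
    simp only [hk] at hd
    rw [show 2 ^ (k - 2) * 2 = 2 ^ (k - 1) by rw [← pow_succ]; congr 1; omega] at hd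
    have := (Nat.pow_dvd_pow_iff_le_right (show 1 < 2 by norm_num)).mp hd
    omega
  have h22 : h * h * (h * h) = 1 := by rw [← pow_two, ← pow_two, ← pow_mul]; exact hpow
  have hconj : ∀ z : G, y * z * y⁻¹ * (y * z * y⁻¹) = y * (z * z) * y⁻¹ := fun z => by group
  rcases hsmall a ⟨y, hy⟩ _ (hSY (S.mul_mem hhS hhS)) h22 with e | e | e | e
  · exact hne e
  · refine haJ ?_
    have h2 := hJ _ (hinv h hhS)
    rwa [hconj, e, hy.fst] at h2
  · exact haJ (e ▸ hJ h hhS)
  · refine haJ ?_
    have h2 := hJ _ (hinv _ (hinv h hhS))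
    rwa [hconj, hconj, e, hy.thd ht, hy.fst] at h2

theorem eq_of_mem_centTwo (hG : Hyp G) (hsmall : SmallCent t) (ht : orderOf t = 2) {a b z : G}
    (ha : Good t a) (hb : Cyc t b z) (hmem : b ∈ centTwo t a) : b = a ∨ b = t * a := by
  rcases hsmall a ha b hmem (mul_self_of_orderOf (hb.orderOf_a ht)) with e | e | e | e
  · exact absurd e (ne_one_of_orderOf (hb.orderOf_a ht))
  · exact absurd e (hb.ne hG ht)
  · exact Or.inl e
  · exact Or.inr e

/-- A placed `a` with `T ⊓ C(t, a) < T` not elementary: this subgroup is normal of index 2 in `T`. -/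
theorem big_facts (hG : Hyp G) (hsmall : SmallCent t) (ht : orderOf t = 2)
    (hT : IsPGroup 2 T) (hTC : T ≤ centralizer ({t} : Set G))
    (htop : ∀ a, Placed t T a → ¬ T ≤ centTwo t a) {a : G} (ha : Placed t T a)
    (hbig : ∃ g ∈ T ⊓ centTwo t a, g * g ≠ 1) :
    (∀ g ∈ T, g ∉ centTwo t a → g * a * g⁻¹ = t * a) ∧
    (∀ g h, g ∈ T → h ∈ T → g ∉ centTwo t a → h ∉ centTwo t a → g⁻¹ * h ∈ centTwo t a) := by
  obtain ⟨haT, y, hy, hinv⟩ := ha
  set Y := centTwo t a with hY
  set S := T ⊓ Y with hS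
  have haS : a ∈ S := ⟨haT, (self_mem_centTwo hy ht).2⟩
  have htS : ∀ g ∈ T, g * t * g⁻¹ = t := fun g hg =>
    mul_inv_eq_iff_eq_mul.mpr (mem_centralizer_singleton_iff.mp (hTC hg))
  set N := T ⊓ normalizer (S : Set G) with hN
  have hswap : ∀ g ∈ N, g ∉ Y → g * a * g⁻¹ = t * a := by
    intro g hg hgY
    have hmem : g * a * g⁻¹ ∈ S := (mem_normalizer_iff.mp hg.2 a).mp haS
    rcases eq_of_mem_centTwo hG hsmall ht ⟨y, hy⟩ (hy.conj (hTC hg.1)) hmem.2 with e | e
    · exact absurd (mem_centTwo.mpr ⟨mul_inv_eq_iff_eq_mul.mp (htS g hg.1), mul_inv_eq_iff_eq_mul.mp e⟩) hgY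
    · exact e
  have hpair : ∀ g h, g ∈ N → h ∈ N → g ∉ Y → h ∉ Y → g⁻¹ * h ∈ Y := by
    intro g h hg hh hgY hhY
    refine mem_centTwo.mpr ⟨?_, ?_⟩
    · exact mem_centralizer_singleton_iff.mp (mul_mem (inv_mem (hTC hg.1)) (hTC hh.1))
    · refine mul_inv_eq_iff_eq_mul.mp ?_
      calc g⁻¹ * h * a * (g⁻¹ * h)⁻¹ = g⁻¹ * (h * a * h⁻¹) * g := by group
        _ = g⁻¹ * (g * a * g⁻¹) * g := by rw [hswap h hh hhY, hswap g hg hgY]
        _ = a := by group
  suffices hall : T ≤ N from ⟨fun g hg hgY => hswap g (hall hg) hgY,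
    fun g h hg hh hgY hhY => hpair g h (hall hg) (hall hh) hgY hhY⟩
  by_contra hnot
  have : Fact (Nat.Prime 2) := ⟨Nat.prime_two⟩
  have : Group.IsNilpotent T := hT.isNilpotent
  have hnc := Group.normalizerCondition_of_isNilpotent (G := T)
  obtain ⟨g₁, hg₁, hg₁'⟩ : ∃ g₁ : G, g₁ ∈ N ∧ g₁ ∉ Y := by
    have hne : S.subgroupOf T ≠ ⊤ := fun e => htop a ⟨haT, y, hy, hinv⟩
      fun g hg => (Subgroup.subgroupOf_eq_top.mp e hg).2
    obtain ⟨x, hxN, hxS⟩ := SetLike.exists_of_lt (hnc _ hne.lt_top)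
    refine ⟨x, ⟨x.2, mem_normalizer_iff.mpr fun z => ?_⟩, fun hh => hxS ⟨x.2, hh⟩⟩
    constructor
    · intro hz
      have := (mem_normalizer_iff.mp hxN ⟨z, hz.1⟩).mp (by simpa [mem_subgroupOf] using hz)
      simpa [mem_subgroupOf] using this
    · intro hz
      have hzT : z ∈ T := by
        have := T.mul_mem (T.mul_mem (T.inv_mem x.2) hz.1) x.2
        rwa [show (x : G)⁻¹ * ((x : G) * z * (x : G)⁻¹) * x = z by group] at this
      have := (mem_normalizer_iff.mp hxN ⟨z, hzT⟩).mpr (by simpa [mem_subgroupOf] using hz)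
      simpa [mem_subgroupOf] using this
  obtain ⟨q, hqT, hqN, hqnorm⟩ : ∃ q : G, q ∈ T ∧ q ∉ N ∧ ∀ z ∈ N, q * z * q⁻¹ ∈ N := by
    have hne : N.subgroupOf T ≠ ⊤ := fun e => hnot (Subgroup.subgroupOf_eq_top.mp e)
    obtain ⟨x, hxN, hxS⟩ := SetLike.exists_of_lt (hnc _ hne.lt_top)
    refine ⟨x, x.2, fun hh => hxS hh, fun z hz => ?_⟩
    have := (mem_normalizer_iff.mp hxN ⟨z, hz.1⟩).mp (by simpa [mem_subgroupOf] using hz)
    simpa [mem_subgroupOf] using this
  set a' := q * a * q⁻¹ with ha'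
  have hy' : Cyc t a' (q * y * q⁻¹) := hy.conj (hTC hqT)
  have hSN : S ≤ N := le_inf inf_le_left le_normalizer
  have ha'S : a' ∉ S := by
    intro hmem
    refine hqN ⟨hqT, mem_normalizer_iff.mpr fun z => ?_⟩
    have hiff : ∀ w : G, w ∈ T → (w * a' = a' * w ↔ w * a = a * w) := by
      intro w hw
      rcases eq_of_mem_centTwo hG hsmall ht ⟨y, hy⟩ hy' hmem.2 with e | e
      · rw [e]
      · rw [e]
        have hwt : w * t = t * w := mem_centralizer_singleton_iff.mp (hTC hw)
        constructor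
        · intro h1
          refine mul_left_cancel (a := t) ?_
          calc t * (w * a) = w * t * a := by rw [← mul_assoc, hwt]
            _ = w * (t * a) := mul_assoc _ _ _
            _ = t * (a * w) := by rw [h1, mul_assoc]
        · intro h1
          rw [← mul_assoc, hwt, mul_assoc, h1, mul_assoc]
    have hcc : q * z * q⁻¹ * a' = a' * (q * z * q⁻¹) ↔ z * a = a * z := by
      rw [ha', show q * z * q⁻¹ = MulAut.conj q z from rfl, show q * a * q⁻¹ = MulAut.conj q a from rfl,
        ← map_mul, ← map_mul, (MulAut.conj q).injective.eq_iff]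
    constructor
    · intro hz
      have hT' : q * z * q⁻¹ ∈ T := T.mul_mem (T.mul_mem hqT hz.1) (T.inv_mem hqT)
      refine ⟨hT', mem_centTwo.mpr ⟨mem_centralizer_singleton_iff.mp (hTC hT'), ?_⟩⟩
      exact (hiff _ hT').mp (hcc.mpr (mem_centTwo.mp hz.2).2)
    · intro hz
      have hzT : z ∈ T := by
        have := T.mul_mem (T.mul_mem (T.inv_mem hqT) hz.1) hqT
        rwa [show q⁻¹ * (q * z * q⁻¹) * q = z by group] at this
      exact ⟨hzT, mem_centTwo.mpr ⟨mem_centralizer_singleton_iff.mp (hTC hzT),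
        hcc.mp ((hiff _ hz.1).mpr (mem_centTwo.mp hz.2).2)⟩⟩
  have hsq : ∀ g ∈ N, g * g ∈ Y := by
    intro g hg
    by_cases hgY : g ∈ Y
    · exact Y.mul_mem hgY hgY
    by_contra h2
    have := hpair g (g * g) hg (N.mul_mem hg hg) hgY h2
    rw [inv_mul_cancel_left] at this
    exact hgY this
  -- squares of elements of `S` centralize `a'`
  refine squares_false hsmall ht hy (hT.to_le inf_le_left) hinv inf_le_right hbig
    (J := S ⊓ centralizer ({a'} : Set G)) (fun g hg => ⟨S.mul_mem hg hg, ?_⟩) fun hh => ?_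
  · refine mem_centralizer_singleton_iff.mpr ?_
    have hginv : q⁻¹ * g * q ∈ N := by
      have hfin : Function.Surjective (fun z : N => (⟨q * z * q⁻¹, hqnorm z z.2⟩ : N)) :=
        Finite.surjective_of_injective fun u v e =>
          Subtype.ext (mul_left_cancel (mul_right_cancel (congrArg Subtype.val e)))
      obtain ⟨w, hw⟩ := hfin ⟨g, hSN hg⟩
      have hwe : q * (w : G) * q⁻¹ = g := congrArg Subtype.val hw
      have : q⁻¹ * g * q = (w : G) := by rw [← hwe]; group
      rw [this]; exact w.2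
    have h2 := (mem_centTwo.mp (hsq _ hginv)).2
    calc g * g * a' = q * ((q⁻¹ * g * q) * (q⁻¹ * g * q) * a) * q⁻¹ := by rw [ha']; group
      _ = q * (a * ((q⁻¹ * g * q) * (q⁻¹ * g * q))) * q⁻¹ := by rw [h2]
      _ = _ := by rw [ha']; group
  · refine ha'S ⟨T.mul_mem (T.mul_mem hqT haT) (T.inv_mem hqT), mem_centTwo.mpr ⟨?_, ?_⟩⟩
    · exact mem_centralizer_singleton_iff.mp
        (mul_mem (mul_mem (hTC hqT) (hTC haT)) (inv_mem (hTC hqT)))
    · exact (mem_centralizer_singleton_iff.mp hh.2).symm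

/-- The `T`-class of `b` has `|T| / |T ⊓ C(b)|` elements. -/
theorem card_class_mul {T : Subgroup G} (b : T) :
    Nat.card {x : T // IsConj b x} * Nat.card (centralizer ({b} : Set T)) = Nat.card T := by
  rw [Subgroup.nat_card_centralizer_nat_card_stabilizer]
  have e : ({x : T | IsConj b x} : Set T) = MulAction.orbit (ConjAct T) b := by
    ext x
    rw [ConjAct.mem_orbit_conjAct, Set.mem_ofPred_eq]
    exact isConj_comm
  show Nat.card ({x : T | IsConj b x} : Set T) * _ = _
  rw [e]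
  have h1 : Nat.card (MulAction.orbit (ConjAct T) b) =
      (MulAction.stabilizer (ConjAct T) b).index := by
    rw [MulAction.index_stabilizer, Nat.card_coe_set_eq]
  rw [h1, Subgroup.index_mul_card]
  rfl

theorem card_small_centralizer (hG : Hyp G) (hsmall : SmallCent t) (ht : orderOf t = 2)
    (hTC : T ≤ centralizer ({t} : Set G)) {a : G} (ha : Placed t T a)
    (hno : ∀ g ∈ T ⊓ centTwo t a, g * g = 1) (htT : t ∈ T) :
    Nat.card (centralizer ({(⟨a, ha.1⟩ : T)} : Set T)) = 4 := by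
  classical
  obtain ⟨haT, y, hy, hinv⟩ := ha
  have hset : (((⊤ : Subgroup G) ⊓ (T ⊓ centTwo t a) : Subgroup G) : Set G) =
      (({1, t, a, t * a} : Finset G) : Set G) := by
    ext g
    simp only [top_inf_eq, SetLike.mem_coe, Finset.coe_insert, Finset.coe_singleton, Set.mem_insert_iff,
      Set.mem_singleton_iff]
    constructor
    · intro hg
      exact hsmall a ⟨y, hy⟩ g hg.2 (hno g hg)
    · obtain ⟨h1, h2⟩ := self_mem_centTwo hy ht
      rintro (rfl | rfl | rfl | rfl)
      exacts [one_mem _, ⟨htT, h1⟩, ⟨haT, h2⟩, ⟨T.mul_mem htT haT, mul_mem h1 h2⟩]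
  have hcard : Nat.card (centralizer ({(⟨a, haT⟩ : T)} : Set T)) =
      Nat.card ((⊤ : Subgroup G) ⊓ (T ⊓ centTwo t a) : Subgroup G) := by
    refine Nat.card_congr
      { toFun := fun g => ⟨((g : T) : G), trivial, (g : T).2, mem_centTwo.mpr
          ⟨mem_centralizer_singleton_iff.mp (hTC (g : T).2),
            congrArg Subtype.val (mem_centralizer_singleton_iff.mp g.2)⟩⟩
        invFun := fun g => ⟨⟨(g : G), g.2.2.1⟩, mem_centralizer_singleton_iff.mpr
          (Subtype.ext (mem_centTwo.mp g.2.2.2).2)⟩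
        left_inv := fun g => rfl
        right_inv := fun g => rfl }
  rw [hcard]
  show Nat.card (((⊤ : Subgroup G) ⊓ (T ⊓ centTwo t a) : Subgroup G) : Set G) = 4
  rw [Nat.card_coe_set_eq, hset, Set.ncard_coe_finset]
  have ha2 := hy.orderOf_a ht
  have hta : t * a ≠ 1 := fun e => hy.ne hG ht (by
    calc a = t * (t * a) := by rw [← mul_assoc, mul_self_of_orderOf ht, one_mul]
      _ = t := by rw [e, mul_one])
  rw [Finset.card_insert_of_notMem, Finset.card_insert_of_notMem, Finset.card_pair]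
  · intro e; exact ne_one_of_orderOf ht (mul_eq_right.mp e.symm)
  · simp only [Finset.mem_insert, Finset.mem_singleton, not_or]
    exact ⟨(hy.ne hG ht).symm, fun e => ne_one_of_orderOf ha2 (left_eq_mul.mp e)⟩
  · simp only [Finset.mem_insert, Finset.mem_singleton, not_or]
    exact ⟨(ne_one_of_orderOf ht).symm, (ne_one_of_orderOf ha2).symm, hta.symm⟩

theorem card_pair_le_of_small (hG : Hyp G) (ht : orderOf t = 2) (hsmall : SmallCent t) :
    Nat.card (Pair t) ≤ 2 * Nat.card (centralizer ({t} : Set G)) := by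
  classical
  set C := centralizer ({t} : Set G) with hC
  have : Fact (Nat.Prime 2) := ⟨Nat.prime_two⟩
  obtain ⟨P⟩ := (inferInstance : Nonempty (Sylow 2 C))
  set T : Subgroup G := (P : Subgroup C).map C.subtype with hTdef
  have hT : IsPGroup 2 T := P.isPGroup'.map _
  have hTC : T ≤ C := map_subtype_le _
  have hTconj : ∀ R : Subgroup G, IsPGroup 2 R → R ≤ C → ∃ h ∈ C, ∀ p ∈ R, h * p * h⁻¹ ∈ T := by
    intro R hR hRC
    obtain ⟨Q, hQ⟩ := (hR.comap_subtype (K := C)).exists_le_sylow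
    obtain ⟨c, hc⟩ := MulAction.exists_smul_eq C Q P
    refine ⟨c, c.2, fun p hp => ?_⟩
    have h1 : MulAut.conj c ⟨p, hRC hp⟩ ∈ (P : Subgroup C) := by
      rw [← hc]
      exact Subgroup.smul_mem_pointwise_smul _ (MulAut.conj c) _ (hQ (show (⟨p, hRC hp⟩ : C) ∈ R.comap C.subtype from hp))
    exact ⟨_, h1, rfl⟩
  have htT : t ∈ T := by
    have hZ : IsPGroup 2 (zpowers t) := IsPGroup.of_card (n := 1) (by rw [Nat.card_zpowers, ht, pow_one])
    obtain ⟨h, hh, hhp⟩ := hTconj _ hZ (zpowers_le.mpr (mem_centralizer_singleton_iff.mpr rfl))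
    have := hhp t (mem_zpowers t)
    rwa [mem_centralizer_singleton_iff.mp hh, mul_inv_cancel_right] at this
  suffices hmain : ∃ r : Bool → G, ∀ a, Placed t T a → ∃ i, ∃ h ∈ C, h * r i * h⁻¹ = a by
    obtain ⟨r, hr⟩ := hmain
    refine card_pair_le_two hG ht r fun a ha => ?_
    obtain ⟨h, hh, hpl⟩ := exists_placed hG ht hTconj hT ha
    obtain ⟨i, h', hh', e⟩ := hr _ hpl
    refine ⟨i, h⁻¹ * h', mul_mem (inv_mem hh) hh', ?_⟩
    calc h⁻¹ * h' * r i * (h⁻¹ * h')⁻¹ = h⁻¹ * (h' * r i * h'⁻¹) * h := by group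
      _ = a := by rw [e]; group
  have one_conj : ∀ z : G, (1 : G) * z * 1⁻¹ = z := fun z => by simp
  -- a central involution other than `t`
  by_cases hcen : ∃ z ∈ T, z ≠ 1 ∧ z ≠ t ∧ z * z = 1 ∧ ∀ g ∈ T, g * z = z * g
  · obtain ⟨z, hzT, hz1, hzt, hz2, hzc⟩ := hcen
    refine ⟨fun i => if i then z else t * z, fun a ha => ?_⟩
    obtain ⟨haT, y, hy, hinv⟩ := ha
    have hzY : z ∈ centTwo t a :=
      mem_centTwo.mpr ⟨mem_centralizer_singleton_iff.mp (hTC hzT), (hzc a haT).symm⟩
    rcases hsmall a ⟨y, hy⟩ z hzY hz2 with e | e | e | e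
    · exact absurd e hz1
    · exact absurd e hzt
    · exact ⟨true, 1, C.one_mem, by beta_reduce; rw [one_conj, if_pos rfl, e]⟩
    · refine ⟨false, 1, C.one_mem, ?_⟩
      beta_reduce
      rw [one_conj, if_neg Bool.false_ne_true, e, ← mul_assoc, mul_self_of_orderOf ht, one_mul]
  have htop : ∀ a, Placed t T a → ¬ T ≤ centTwo t a := by
    intro a ha hle
    obtain ⟨haT, y, hy, -⟩ := ha
    exact hcen ⟨a, haT, ne_one_of_orderOf (hy.orderOf_a ht), hy.ne hG ht,
      mul_self_of_orderOf (hy.orderOf_a ht), fun g hg => (mem_centTwo.mp (hle hg)).2⟩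
  have hTconj' : ∀ {a b : G} (ha : a ∈ T) (hb : b ∈ T), IsConj (⟨a, ha⟩ : T) ⟨b, hb⟩ →
      ∃ h ∈ C, h * a * h⁻¹ = b := by
    intro a b ha hb h
    obtain ⟨g, hg⟩ := isConj_iff.mp h
    exact ⟨g, hTC g.2, congrArg Subtype.val hg⟩
  by_cases hbig : ∃ a, Placed t T a ∧ ∃ g ∈ T ⊓ centTwo t a, g * g ≠ 1
  · obtain ⟨a, ha, hab⟩ := hbig
    obtain ⟨hswap, hpair⟩ := big_facts hG hsmall ht hT hTC htop ha hab
    obtain ⟨haT, y, hy, hinv⟩ := ha
    obtain ⟨g₀, hg₀, hg₀'⟩ := Set.not_subset.mp (htop a ⟨haT, y, hy, hinv⟩)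
    -- elements outside `C(t, a)`
    have hout : ∀ b, Placed t T b → b ∈ centTwo t a ∨
        (∀ g ∈ T ⊓ centTwo t b, g * g = 1) := by
      intro b hb
      by_contra h
      push Not at h
      obtain ⟨hbY, hbb⟩ := h
      obtain ⟨-, hpair'⟩ := big_facts hG hsmall ht hT hTC htop hb hbb
      obtain ⟨hbT, z, hz, hzinv⟩ := hb
      refine squares_false hsmall ht hy (hT.to_le inf_le_left) hinv inf_le_right hab
        (J := centTwo t b) (fun g hg => ?_) fun hmem => ?_
      · by_contra h2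
        have hgb : g ∉ centTwo t b := fun hh => h2 (mul_mem hh hh)
        have := hpair' g (g * g) hg.1 (T.mul_mem hg.1 hg.1) hgb h2
        rw [inv_mul_cancel_left] at this
        exact hgb this
      · exact hbY (mem_centTwo.mpr ⟨mem_centralizer_singleton_iff.mp (hTC hbT),
          (mem_centTwo.mp hmem).2.symm⟩)
    have hone : ∀ b b', Placed t T b → Placed t T b' → b ∉ centTwo t a → b' ∉ centTwo t a →
        ∃ h ∈ C, h * b * h⁻¹ = b' := by
      intro b b' hb hb' hbY hb'Y
      by_contra hnc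
      have hbT := hb.1
      have hb'T := hb'.1
      have hnc' : ¬ IsConj (⟨b, hbT⟩ : T) ⟨b', hb'T⟩ := fun h => hnc (hTconj' hbT hb'T h)
      have hb4 := card_small_centralizer hG hsmall ht hTC hb ((hout b hb).resolve_left hbY) htT
      have hb'4 := card_small_centralizer hG hsmall ht hTC hb' ((hout b' hb').resolve_left hb'Y) htT
      have h1 := card_class_mul (T := T) ⟨b, hbT⟩
      have h2 := card_class_mul (T := T) ⟨b', hb'T⟩
      rw [hb4] at h1
      rw [hb'4] at h2
      -- the complement of `C(t, a)` in `T` is half of `T`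
      set S := (centTwo t a).subgroupOf T with hSdef
      have hidx : S.index = 2 := by
        rw [Subgroup.index_eq_two_iff]
        refine ⟨⟨g₀, hg₀⟩, fun x => ?_⟩
        simp only [S, mem_subgroupOf, Subgroup.coe_mul]
        by_cases hx : (x : G) ∈ centTwo t a
        · refine Or.inr ⟨hx, fun hh => hg₀' ?_⟩
          have := mul_mem (inv_mem hx) hh
          rwa [inv_mul_cancel_left] at this
        · refine Or.inl ⟨?_, hx⟩
          have hx' : (x : G)⁻¹ ∉ centTwo t a := fun hh => hx (by simpa using inv_mem hh)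
          have := hpair _ _ (T.inv_mem x.2) hg₀ hx' hg₀'
          rwa [inv_inv] at this
      have hS := S.card_mul_index
      rw [hidx] at hS
      have := Fintype.ofFinite T
      set K : Finset T := (Finset.univ.filter fun x => IsConj (⟨b, hbT⟩ : T) x) ∪
        (Finset.univ.filter fun x => IsConj (⟨b', hb'T⟩ : T) x) with hK
      set O : Finset T := Finset.univ.filter fun x => x ∉ S with hO
      have hnorm : S.Normal := normal_of_index_eq_two hidx
      have hKO : K ⊆ O := by
        intro x hx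
        simp only [K, Finset.mem_union, Finset.mem_filter, Finset.mem_univ, true_and] at hx
        simp only [O, Finset.mem_filter, Finset.mem_univ, true_and]
        intro hxS
        rcases hx with hx | hx <;> obtain ⟨g, hg⟩ := isConj_iff.mp hx.symm
        · exact hbY (show (⟨b, hbT⟩ : T) ∈ S from hg ▸ hnorm.conj_mem x hxS g)
        · exact hb'Y (show (⟨b', hb'T⟩ : T) ∈ S from hg ▸ hnorm.conj_mem x hxS g)
      have hKcard : K.card = Nat.card {x : T // IsConj (⟨b, hbT⟩ : T) x} +
          Nat.card {x : T // IsConj (⟨b', hb'T⟩ : T) x} := by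
        rw [hK, Finset.card_union_of_disjoint, Nat.card_eq_fintype_card, Fintype.card_subtype,
          Nat.card_eq_fintype_card, Fintype.card_subtype]
        rw [Finset.disjoint_left]
        intro x hx hx'
        simp only [Finset.mem_filter, Finset.mem_univ, true_and] at hx hx'
        exact hnc' (hx.trans hx'.symm)
      have hOcard : O.card = Nat.card S := by
        have h3 := Finset.card_filter_add_card_filter_not (s := (Finset.univ : Finset T)) (fun x => x ∈ S)
        rw [← Fintype.card_subtype, ← Nat.card_eq_fintype_card, Finset.card_univ,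
          ← Nat.card_eq_fintype_card, ← hS] at h3
        show (Finset.univ.filter fun x => ¬ x ∈ S).card = _
        omega
      have hKeq : K = O := Finset.eq_of_subset_of_card_le hKO (by rw [hKcard, hOcard]; omega)
      -- hence `a * b` is an involution
      have hab' : (⟨a, haT⟩ : T) * ⟨b, hbT⟩ ∈ K := by
        rw [hKeq]
        simp only [O, S, Finset.mem_filter, Finset.mem_univ, true_and, mem_subgroupOf, Subgroup.coe_mul]
        intro hh
        apply hbY
        have := mul_mem (inv_mem (self_mem_centTwo hy ht).2) hh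
        rwa [inv_mul_cancel_left] at this
      have hinvol : a * b * (a * b) = 1 := by
        simp only [K, Finset.mem_union, Finset.mem_filter, Finset.mem_univ, true_and] at hab'
        rcases hab' with hx | hx <;> obtain ⟨g, hg⟩ := isConj_iff.mp hx <;>
          have e := congrArg Subtype.val hg <;> simp only [Subgroup.coe_mul, InvMemClass.coe_inv] at e
        · obtain ⟨-, z, hz, -⟩ := hb
          have hb2 := mul_self_of_orderOf (hz.orderOf_a ht)
          rw [← e]
          calc (g : G) * b * (g : G)⁻¹ * ((g : G) * b * (g : G)⁻¹) = (g : G) * (b * b) * (g : G)⁻¹ := by group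
            _ = 1 := by rw [hb2]; group
        · obtain ⟨-, z, hz, -⟩ := hb'
          have hb2 := mul_self_of_orderOf (hz.orderOf_a ht)
          rw [← e]
          calc (g : G) * b' * (g : G)⁻¹ * ((g : G) * b' * (g : G)⁻¹) = (g : G) * (b' * b') * (g : G)⁻¹ := by group
            _ = 1 := by rw [hb2]; group
      obtain ⟨-, z, hz, -⟩ := hb
      have hb2 := mul_self_of_orderOf (hz.orderOf_a ht)
      have ha2 := mul_self_of_orderOf (hy.orderOf_a ht)
      refine hbY (mem_centTwo.mpr ⟨mem_centralizer_singleton_iff.mp (hTC hbT), ?_⟩)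
      calc b * a = a * a * (b * a) * (b * b) := by rw [ha2, hb2, one_mul, mul_one]
        _ = a * (a * b * (a * b)) * b := by group
        _ = a * b := by rw [hinvol, mul_one]
    obtain ⟨b₀, hb₀⟩ : ∃ b₀ : G, ∀ b, Placed t T b → b ∉ centTwo t a → ∃ h ∈ C, h * b₀ * h⁻¹ = b := by
      by_cases hex : ∃ b, Placed t T b ∧ b ∉ centTwo t a
      · obtain ⟨b₀, hb₀, hb₀'⟩ := hex
        exact ⟨b₀, fun b hb hbY => hone b₀ b hb₀ hb hb₀' hbY⟩
      · push Not at hex
        exact ⟨1, fun b hb hbY => absurd (hex b hb) hbY⟩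
    refine ⟨fun i => if i then a else b₀, fun b hb => ?_⟩
    by_cases hbY : b ∈ centTwo t a
    · obtain ⟨-, z, hz, -⟩ := hb
      rcases eq_of_mem_centTwo hG hsmall ht ⟨y, hy⟩ hz hbY with e | e
      · exact ⟨true, 1, C.one_mem, by beta_reduce; rw [one_conj, if_pos rfl, e]⟩
      · exact ⟨true, g₀, hTC hg₀, by beta_reduce; rw [if_pos rfl, hswap g₀ hg₀ hg₀', e]⟩
    · obtain ⟨h, hh, e⟩ := hb₀ b hb hbY
      exact ⟨false, h, hh, by beta_reduce; rw [if_neg Bool.false_ne_true, e]⟩
  -- all centralizers are four groups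
  push Not at hbig
  by_contra hno
  push Not at hno
  obtain ⟨a, ha, -⟩ := hno (fun _ => 1)
  obtain ⟨b, hb, hba⟩ := hno (fun _ => a)
  obtain ⟨e₀, he₀, he⟩ := hno (fun i => if i then a else b)
  have hab : ¬ IsConj (⟨a, ha.1⟩ : T) ⟨b, hb.1⟩ := fun h => by
    obtain ⟨g, hg, hge⟩ := hTconj' ha.1 hb.1 h
    exact hba true g hg hge
  have hae : ¬ IsConj (⟨a, ha.1⟩ : T) ⟨e₀, he₀.1⟩ := fun h => by
    obtain ⟨g, hg, hge⟩ := hTconj' ha.1 he₀.1 h
    exact he true g hg (by rwa [if_pos rfl])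
  have hbe : ¬ IsConj (⟨b, hb.1⟩ : T) ⟨e₀, he₀.1⟩ := fun h => by
    obtain ⟨g, hg, hge⟩ := hTconj' hb.1 he₀.1 h
    exact he false g hg (by rwa [if_neg Bool.false_ne_true])
  have := Fintype.ofFinite T
  have hmul : ∀ {u : G} (hu : Placed t T u),
      (Finset.univ.filter fun x => IsConj (⟨u, hu.1⟩ : T) x).card * 4 = Fintype.card T := by
    intro u hu
    have h1 := card_class_mul (T := T) ⟨u, hu.1⟩
    rw [card_small_centralizer hG hsmall ht hTC hu (hbig u hu) htT] at h1
    rwa [Nat.card_eq_fintype_card, Fintype.card_subtype, Nat.card_eq_fintype_card] at h1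
  set Ka : Finset T := Finset.univ.filter fun x => IsConj (⟨a, ha.1⟩ : T) x with hKa
  set Kb : Finset T := Finset.univ.filter fun x => IsConj (⟨b, hb.1⟩ : T) x with hKb
  set Ke : Finset T := Finset.univ.filter fun x => IsConj (⟨e₀, he₀.1⟩ : T) x with hKe
  have hA : Ka.card * 4 = Fintype.card T := hmul ha
  have hB : Kb.card * 4 = Fintype.card T := hmul hb
  have hE : Ke.card * 4 = Fintype.card T := hmul he₀
  have hinvol : ∀ {u : G} (hu : Placed t T u), ∀ x : T, IsConj (⟨u, hu.1⟩ : T) x →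
      x * x = 1 ∧ x ≠ 1 ∧ (x : G) ≠ t := by
    intro u hu x hx
    obtain ⟨g, hg⟩ := isConj_iff.mp hx
    obtain ⟨z, hz, -⟩ := hu.2
    have hu2 := mul_self_of_orderOf (hz.orderOf_a ht)
    have hv : (x : G) = (g : G) * u * (g : G)⁻¹ := (congrArg Subtype.val hg).symm
    refine ⟨Subtype.ext ?_, fun h1 => ?_, fun h1 => ?_⟩
    · rw [Subgroup.coe_mul, hv]
      calc (g : G) * u * (g : G)⁻¹ * ((g : G) * u * (g : G)⁻¹) = (g : G) * (u * u) * (g : G)⁻¹ := by group
        _ = _ := by rw [hu2]; simp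
    · rw [h1, OneMemClass.coe_one, eq_comm, conj_eq_one_iff] at hv
      exact ne_one_of_orderOf (hz.orderOf_a ht) hv
    · exact (hz.conj (hTC g.2)).ne hG ht (hv ▸ h1)
  set t' : T := ⟨t, htT⟩ with ht'
  set U : Finset T := Finset.univ.filter fun x => x * x = 1 with hU
  have hsubU : Ka ∪ Kb ∪ Ke ∪ {1, t'} ⊆ U := by
    intro x hx
    simp only [Finset.mem_union, Finset.mem_insert, Finset.mem_singleton, Ka, Kb, Ke, Finset.mem_filter,
      Finset.mem_univ, true_and] at hx
    simp only [U, Finset.mem_filter, Finset.mem_univ, true_and]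
    rcases hx with ((hx | hx) | hx) | rfl | rfl
    exacts [(hinvol ha x hx).1, (hinvol hb x hx).1, (hinvol he₀ x hx).1, one_mul 1,
      Subtype.ext (mul_self_of_orderOf ht)]
  have hUcard : Ka.card + Kb.card + Ke.card + 2 ≤ U.card := by
    refine le_trans (le_of_eq ?_) (Finset.card_le_card hsubU)
    rw [Finset.card_union_of_disjoint, Finset.card_union_of_disjoint, Finset.card_union_of_disjoint,
      Finset.card_pair (fun h => ne_one_of_orderOf ht (congrArg Subtype.val h).symm)]
    · rw [Finset.disjoint_left]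
      intro x hx hx'
      simp only [Ka, Kb, Finset.mem_filter, Finset.mem_univ, true_and] at hx hx'
      exact hab (hx.trans hx'.symm)
    · rw [Finset.disjoint_left]
      intro x hx hx'
      simp only [Finset.mem_union, Ka, Kb, Ke, Finset.mem_filter, Finset.mem_univ, true_and] at hx hx'
      rcases hx with hx | hx
      · exact hae (hx.trans hx'.symm)
      · exact hbe (hx.trans hx'.symm)
    · rw [Finset.disjoint_left]
      intro x hx hx'
      simp only [Finset.mem_union, Finset.mem_insert, Finset.mem_singleton, Ka, Kb, Ke, Finset.mem_filter,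
        Finset.mem_univ, true_and] at hx hx'
      have h3 : x ≠ 1 ∧ (x : G) ≠ t := by
        rcases hx with (hx | hx) | hx
        exacts [(hinvol ha x hx).2, (hinvol hb x hx).2, (hinvol he₀ x hx).2]
      rcases hx' with rfl | rfl
      exacts [h3.1 rfl, h3.2 rfl]
  set W : Finset T := (Kb ∪ Ke).erase ⟨t * a, T.mul_mem htT ha.1⟩ with hW
  have hWcard : Kb.card + Ke.card ≤ W.card + 1 := by
    refine le_trans ?_ (Nat.le_add_of_sub_le (Finset.pred_card_le_card_erase))
    rw [Finset.card_union_of_disjoint]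
    rw [Finset.disjoint_left]
    intro x hx hx'
    simp only [Kb, Ke, Finset.mem_filter, Finset.mem_univ, true_and] at hx hx'
    exact hbe (hx.trans hx'.symm)
  have hWU : W.image (fun x => (⟨a, ha.1⟩ : T) * x) ⊆ Finset.univ.filter fun x => ¬ x * x = 1 := by
    intro v hv
    obtain ⟨x, hx, rfl⟩ := Finset.mem_image.mp hv
    simp only [Finset.mem_filter, Finset.mem_univ, true_and]
    intro hsq
    simp only [W, Finset.mem_erase, Finset.mem_union, Kb, Ke, Finset.mem_filter, Finset.mem_univ,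
      true_and] at hx
    obtain ⟨hne, hx⟩ := hx
    have hx3 : x * x = 1 ∧ x ≠ 1 ∧ (x : G) ≠ t := by
      rcases hx with hx | hx
      exacts [hinvol hb x hx, hinvol he₀ x hx]
    have hxa : ¬ IsConj (⟨a, ha.1⟩ : T) x := fun h => by
      rcases hx with hx | hx
      · exact hab (h.trans hx.symm)
      · exact hae (h.trans hx.symm)
    have haG : a ∈ T := ha.1
    obtain ⟨z, hz, -⟩ := ha.2
    have ha2 := mul_self_of_orderOf (hz.orderOf_a ht)
    have hx2 : (x : G) * x = 1 := congrArg Subtype.val hx3.1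
    have hcomm : (x : G) * a = a * x := by
      have e : a * (x : G) * (a * x) = 1 := congrArg Subtype.val hsq
      calc (x : G) * a = a * a * ((x : G) * a) * ((x : G) * x) := by rw [ha2, hx2, one_mul, mul_one]
        _ = a * (a * (x : G) * (a * x)) * x := by group
        _ = a * x := by rw [e, mul_one]
    rcases hsmall a ⟨z, hz⟩ x (mem_centTwo.mpr ⟨mem_centralizer_singleton_iff.mp (hTC x.2), hcomm⟩)
      hx2 with e | e | e | e
    · exact hx3.2.1 (Subtype.ext e)
    · exact hx3.2.2 e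
    · exact hxa ((show x = ⟨a, haG⟩ from Subtype.ext e) ▸ IsConj.refl _)
    · exact hne (Subtype.ext e)
  have hN := Finset.card_le_card hWU
  rw [Finset.card_image_of_injective _ (mul_right_injective _)] at hN
  have hsum := Finset.card_filter_add_card_filter_not (s := (Finset.univ : Finset T)) (fun x => x * x = 1)
  rw [← hU, Finset.card_univ] at hsum
  have hpos : 0 < Fintype.card T := Fintype.card_pos
  omega

end Cfsg.Agent.SelfCentThree
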