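import Cfsg.Agent.Lib.SelfCentThree.Chars
import Cfsg.Agent.Lib.SelfCentThree.Bound
import Cfsg.Agent.Lib.SelfCentThree.Small

/-!
# Simple groups with a self-centralizing element of order three

`card_of_simple` : the order is 60 or 168 (Feit and Thompson).
-/

set_option autoImplicit false
set_option linter.unusedSectionVars false

namespace Cfsg.Agent.SelfCentThree

open Subgroup

variable {G : Type*} [Group G] [Finite G]

theorem sc_of_order_three {x : G} (hx : SC x) {y : G} (hy : orderOf y = 3) :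
    SC y ∧ (IsConj x x⁻¹ → IsConj x y) := by
  have hC : centralizer ({x} : Set G) = zpowers x := le_antisymm
    (fun g hg => hx.cent g (mem_centralizer_singleton_iff.mp hg))
    (zpowers_le.mpr (mem_centralizer_singleton_iff.mpr rfl))
  obtain ⟨g, hg⟩ := SelfCentPrime.zpowers_eq_of_card Nat.prime_three hx.ord hC
    (H := zpowers y) (by rw [Nat.card_zpowers, hy])
  obtain ⟨z, hz, hzy⟩ : y ∈ (zpowers x).map (MulAut.conj g).toMonoidHom := hg ▸ mem_zpowers y
  have hzy' : g * z * g⁻¹ = y := hzy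
  obtain ⟨i, hi⟩ := mem_zpowers_iff.mp hz
  rw [← zpow_mod_orderOf, hx.ord] at hi
  have h3 : i % ((3 : ℕ) : ℤ) = 0 ∨ i % ((3 : ℕ) : ℤ) = 1 ∨ i % ((3 : ℕ) : ℤ) = 2 := by omega
  rcases h3 with e | e | e <;> rw [e] at hi
  · rw [← hi, zpow_zero, mul_one, mul_inv_cancel] at hzy'
    rw [← hzy', orderOf_one] at hy
    omega
  · rw [zpow_one] at hi
    subst hi
    rw [← hzy']
    exact ⟨hx.conj g, fun _ => isConj_iff.mpr ⟨g, rfl⟩⟩
  · have hi' : z = x⁻¹ := by rw [← hi, hx.inv_eq, zpow_two]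
    subst hi'
    rw [← hzy']
    exact ⟨hx.symm.conj g, fun h => h.trans (isConj_iff.mpr ⟨g, rfl⟩)⟩

theorem card_pair_eq {x : G} (hx : SC x) (hr : IsConj x x⁻¹) (t : G) :
    Nat.card (Pair t) = Nat.card {p : G × G // IsConj x p.1 ∧ IsConj x p.2 ∧ p.1 * p.2 = t} := by
  have key : ∀ y : G, orderOf y = 3 ↔ IsConj x y := fun y =>
    ⟨fun h => (sc_of_order_three hx h).2 hr, fun h => by
      obtain ⟨g, rfl⟩ := isConj_iff.mp h
      rw [show g * x * g⁻¹ = MulAut.conj g x from rfl, MulEquiv.orderOf_eq, hx.ord]⟩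
  refine Nat.card_congr (Equiv.subtypeEquivRight fun p => ?_)
  rw [key, key]

theorem exists_sixteen (hG : Hyp G) {t a y w : G} (ht : orderOf t = 2) (hy : Cyc t a y)
    (hw : w ∈ centTwo t a) (hw2 : w * w = 1)
    (hwV : w ≠ 1 ∧ w ≠ t ∧ w ≠ a ∧ w ≠ t * a) (hwc : ∀ z ∈ ({t, a} : Set G), Commute w z) :
    ∃ A : Subgroup G, A ≤ centTwo t a ∧ (∀ u ∈ A, u * u = 1) ∧ Invar y A ∧ 16 ≤ Nat.card A := by
  have hsy := hG.sc y hy.ord
  have hinv := hy.invar ht
  have h3 := not_three_dvd_centTwo (a := a) hG ht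
  set w' := y * w * y⁻¹ with hw'
  obtain ⟨hcw, hrel⟩ := hsy.four_rel h3 hinv hw hw2
  set A := closure ({t, a, w, w'} : Set G) with hA
  obtain ⟨htY, haY⟩ := self_mem_centTwo hy ht
  have hw'Y : w' ∈ centTwo t a := hinv w hw
  have hAY : A ≤ centTwo t a := by
    rw [hA, closure_le]
    rintro u (rfl | rfl | rfl | rfl)
    exacts [htY, haY, hw, hw'Y]
  have hw't : Commute w' t := (mem_centTwo.mp hw'Y).1
  have hw'a : Commute w' a := (mem_centTwo.mp hw'Y).2
  have hwt : Commute w t := hwc t (Or.inl rfl)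
  have hwa : Commute w a := hwc a (Or.inr rfl)
  have hta := hy.commute ht
  have hcomm : ∀ u ∈ ({t, a, w, w'} : Set G), ∀ v ∈ ({t, a, w, w'} : Set G), u * v = v * u := by
    rintro u (rfl | rfl | rfl | rfl) v (rfl | rfl | rfl | rfl)
    exacts [rfl, hta.eq, hwt.eq.symm, hw't.eq.symm, hta.eq.symm, rfl, hwa.eq.symm, hw'a.eq.symm,
      hwt.eq, hwa.eq, rfl, hcw.eq, hw't.eq, hw'a.eq, hcw.eq.symm, rfl]
  have hc' : IsMulCommutative A := isMulCommutative_closure hcomm
  have hA2 : ∀ u ∈ A, u * u = 1 := by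
    intro u hu
    refine closure_induction (p := fun u _ => u * u = 1) ?_ (one_mul 1) (fun u v hu hv hu2 hv2 => ?_)
      (fun u _ hu2 => by rw [← mul_inv_rev, hu2, inv_one]) hu
    · rintro u (rfl | rfl | rfl | rfl)
      exacts [mul_self_of_orderOf ht, mul_self_of_orderOf (hy.orderOf_a ht), hw2, by
        rw [show y * w * y⁻¹ * (y * w * y⁻¹) = y * (w * w) * y⁻¹ by group, hw2]; group]
    · have e : v * u = u * v := congrArg Subtype.val (hc'.is_comm.comm (⟨v, hv⟩ : A) ⟨u, hu⟩)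
      calc u * v * (u * v) = u * (v * u) * v := by simp only [mul_assoc]
        _ = (u * u) * (v * v) := by rw [e]; simp only [mul_assoc]
        _ = 1 := by rw [hu2, hv2, one_mul]
  have hAinv : Invar y A := by
    intro u hu
    refine closure_induction (p := fun u _ => y * u * y⁻¹ ∈ A) ?_ (by simp) (fun u v _ _ hu hv => ?_)
      (fun u _ hu => ?_) hu
    · rintro u (rfl | rfl | rfl | rfl)
      · rw [hy.fst]; exact subset_closure (by simp)
      · rw [hy.snd]; exact mul_mem (subset_closure (by simp)) (subset_closure (by simp))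
      · exact subset_closure (by simp [hw'])
      · rw [hrel]; exact mul_mem (subset_closure (by simp)) (subset_closure (by simp [hw']))
    · have := mul_mem hu hv
      rwa [show y * u * y⁻¹ * (y * v * y⁻¹) = y * (u * v) * y⁻¹ by group] at this
    · have := inv_mem hu
      rwa [show (y * u * y⁻¹)⁻¹ = y * u⁻¹ * y⁻¹ by group] at this
  refine ⟨A, hAY, hA2, hAinv, ?_⟩
  classical
  let V : Finset G := {1, t, a, t * a}
  let W : Finset G := {1, w, w', w * w'}
  have hne : t ≠ 1 := ne_one_of_orderOf ht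
  have hane : a ≠ 1 := ne_one_of_orderOf (hy.orderOf_a ht)
  have hw1 : w' ≠ w := hsy.conj_ne_self h3 hw hwV.1
  have hVinv : ∀ v ∈ V, y⁻¹ * v * y ∈ V := by
    intro v hv
    simp only [V, Finset.mem_insert, Finset.mem_singleton] at hv ⊢
    rcases hv with e | e | e | e <;> rw [e]
    · simp
    · right; right; right
      calc y⁻¹ * t * y = y⁻¹ * (y * (t * a) * y⁻¹) * y := by rw [hy.thd ht]
        _ = t * a := by group
    · right; left
      rw [← hy.fst]; group
    · right; right; left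
      rw [← hy.snd]; group
  have hwnV : w ∉ V := by simp [V, hwV.1, hwV.2.1, hwV.2.2.1, hwV.2.2.2]
  have hw'nV : w' ∉ V := fun h => hwnV (by
    have := hVinv _ h
    rwa [hw', show y⁻¹ * (y * w * y⁻¹) * y = w by group] at this)
  have hwwnV : w * w' ∉ V := fun h => hw'nV (by
    have := hVinv _ h
    rwa [← hrel, show y⁻¹ * (y * (y * w * y⁻¹) * y⁻¹) * y = y * w * y⁻¹ by group, ← hw'] at this)
  have hVcard : V.card = 4 := by
    have hta1 : t * a ≠ 1 := fun e => hy.ne hG ht (by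
      calc a = t * (t * a) := by rw [← mul_assoc, mul_self_of_orderOf ht, one_mul]
        _ = t := by rw [e, mul_one])
    simp only [V]
    rw [Finset.card_insert_of_notMem, Finset.card_insert_of_notMem, Finset.card_pair]
    · intro e; exact hne (mul_eq_right.mp e.symm)
    · simp only [Finset.mem_insert, Finset.mem_singleton, not_or]
      exact ⟨(hy.ne hG ht).symm, fun e => hane (left_eq_mul.mp e)⟩
    · simp only [Finset.mem_insert, Finset.mem_singleton, not_or]
      exact ⟨hne.symm, hane.symm, hta1.symm⟩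
  have hww1 : w * w' ≠ 1 := fun e => hw1 (by
    calc w' = w * (w * w') := by rw [← mul_assoc, hw2, one_mul]
      _ = w := by rw [e, mul_one])
  have hw'1 : w' ≠ 1 := fun e => hw'nV (by simp [V, e])
  have hWcard : W.card = 4 := by
    simp only [W]
    rw [Finset.card_insert_of_notMem, Finset.card_insert_of_notMem, Finset.card_pair]
    · intro e; exact hwV.1 (mul_eq_right.mp e.symm)
    · simp only [Finset.mem_insert, Finset.mem_singleton, not_or]
      exact ⟨hw1.symm, fun e => hw'1 (left_eq_mul.mp e)⟩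
    · simp only [Finset.mem_insert, Finset.mem_singleton, not_or]
      exact ⟨hwV.1.symm, hw'1.symm, hww1.symm⟩
  have hVA : ∀ v ∈ V, v ∈ A := by
    intro v hv
    simp only [V, Finset.mem_insert, Finset.mem_singleton] at hv
    rcases hv with e | e | e | e <;> rw [e]
    exacts [one_mem _, subset_closure (by simp), subset_closure (by simp),
      mul_mem (subset_closure (by simp)) (subset_closure (by simp))]
  have hWA : ∀ v ∈ W, v ∈ A := by
    intro v hv
    simp only [W, Finset.mem_insert, Finset.mem_singleton] at hv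
    rcases hv with e | e | e | e <;> rw [e]
    exacts [one_mem _, subset_closure (by simp), subset_closure (by simp [hw']),
      mul_mem (subset_closure (by simp)) (subset_closure (by simp [hw']))]
  have hVcl : ∀ v ∈ V, ∀ v' ∈ V, v' * v ∈ V := by
    intro v hv v' hv'
    have hcases : ∀ u ∈ V, u = 1 ∨ u = t ∨ u = a ∨ u = t * a := fun u hu => by simpa [V] using hu
    have t2 := mul_self_of_orderOf ht
    have a2 := mul_self_of_orderOf (hy.orderOf_a ht)
    have e1 : a * (t * a) = t := by rw [hta.eq, ← mul_assoc, a2, one_mul]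
    have e2 : t * a * t = a := by rw [hta.eq, mul_assoc, t2, mul_one]
    have e3 : t * (t * a) = a := by rw [← mul_assoc, t2, one_mul]
    have e4 : t * a * a = t := by rw [mul_assoc, a2, mul_one]
    have e5 : t * a * (t * a) = 1 := hA2 _ (hVA _ (by simp [V]))
    have e6 : a * t = t * a := hta.eq.symm
    rcases hcases v hv with e | e | e | e <;> rcases hcases v' hv' with f | f | f | f <;> rw [e, f] <;>
      simp only [V, Finset.mem_insert, Finset.mem_singleton, one_mul, mul_one, t2, a2, e1, e2, e3, e4, e5,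
        e6, true_or, or_true]
  have hinj : ∀ p ∈ V ×ˢ W, ∀ q ∈ V ×ˢ W, p.1 * p.2 = q.1 * q.2 → p = q := by
    intro p hp q hq e
    rw [Finset.mem_product] at hp hq
    have hv2 : q.1⁻¹ = q.1 := inv_eq_of_mul_eq_one_right (hA2 _ (hVA _ hq.1))
    have hp2 : p.2⁻¹ = p.2 := inv_eq_of_mul_eq_one_right (hA2 _ (hWA _ hp.2))
    have h1 : q.1 * p.1 = q.2 * p.2 := by
      calc q.1 * p.1 = q.1⁻¹ * (p.1 * p.2) * p.2⁻¹ := by rw [hv2]; group
        _ = q.2 * p.2 := by rw [e, hp2]; group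
    have hin : q.2 * p.2 ∈ V := h1 ▸ hVcl _ hp.1 _ hq.1
    have hWW : q.2 * p.2 = 1 := by
      have hWmul : q.2 * p.2 = 1 ∨ q.2 * p.2 = w ∨ q.2 * p.2 = w' ∨ q.2 * p.2 = w * w' := by
        have hc : ∀ u ∈ W, u = 1 ∨ u = w ∨ u = w' ∨ u = w * w' := fun u hu => by simpa [W] using hu
        have w2 : w' * w' = 1 := hA2 _ (hWA _ (by simp [W]))
        have e1 : w' * (w * w') = w := by rw [hcw.eq, ← mul_assoc, w2, one_mul]
        have e2 : w * w' * w = w' := by rw [hcw.eq, mul_assoc, hw2, mul_one]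
        have e3 : w * (w * w') = w' := by rw [← mul_assoc, hw2, one_mul]
        have e4 : w * w' * w' = w := by rw [mul_assoc, w2, mul_one]
        have e5 : w * w' * (w * w') = 1 := hA2 _ (hWA _ (by simp [W]))
        have e6 : w' * w = w * w' := hcw.eq.symm
        rcases hc _ hq.2 with e | e | e | e <;> rcases hc _ hp.2 with f | f | f | f <;> rw [e, f] <;>
          simp only [one_mul, mul_one, hw2, w2, e1, e2, e3, e4, e5, e6, true_or, or_true]
      rcases hWmul with e' | e' | e' | e'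
      · exact e'
      · exact absurd (e' ▸ hin) hwnV
      · exact absurd (e' ▸ hin) hw'nV
      · exact absurd (e' ▸ hin) hwwnV
    have hWeq : p.2 = q.2 := by
      have hq2 : q.2 * q.2 = 1 := hA2 _ (hWA _ hq.2)
      calc p.2 = q.2 * (q.2 * p.2) := by rw [← mul_assoc, hq2, one_mul]
        _ = q.2 := by rw [hWW, mul_one]
    exact Prod.ext (mul_right_cancel (hWeq ▸ e)) hWeq
  have hcard := Finset.card_le_card_of_injOn (fun p => p.1 * p.2)
    (s := V ×ˢ W) (t := (Set.toFinite (A : Set G)).toFinset)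
    (fun p hp => by
      rw [Finset.mem_coe, Finset.mem_product] at hp
      rw [Finset.mem_coe, Set.Finite.mem_toFinset]
      exact mul_mem (hVA _ hp.1) (hWA _ hp.2))
    (fun p hp q hq e => hinj p hp q hq e)
  rw [Finset.card_product, hVcard, hWcard, ← Set.ncard_eq_toFinset_card _, ← Nat.card_coe_set_eq] at hcard
  exact hcard

theorem exists_four (hG : Hyp G) {t a y : G} (ht : orderOf t = 2) (hy : Cyc t a y) :
    ∃ A : Subgroup G, A ≤ centTwo t a ∧ (∀ u ∈ A, u * u = 1) ∧ Invar y A ∧ 4 ≤ Nat.card A := by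
  set A := invCenter (centTwo t a)
  obtain ⟨htE, haE⟩ := invCenter_mem hy ht
  have hsy := hG.sc y hy.ord
  refine ⟨A, fun u hu => hu.1, fun u hu => hu.2.2,
    fun u hu => invCenter_conj (mem_normalizer_of_invar hsy (hy.invar ht)) hu, ?_⟩
  classical
  have hsub : ({1, t, a, t * a} : Finset G) ⊆ (Set.toFinite (A : Set G)).toFinset := by
    intro u hu
    simp only [Finset.mem_insert, Finset.mem_singleton] at hu
    rw [Set.Finite.mem_toFinset]
    rcases hu with e | e | e | e <;> rw [e]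
    exacts [A.one_mem, htE, haE, A.mul_mem htE haE]
  have h := Finset.card_le_card hsub
  rw [← Set.ncard_eq_toFinset_card _, ← Nat.card_coe_set_eq] at h
  refine le_trans (le_of_eq ?_) h
  have hta1 : t * a ≠ 1 := fun e => hy.ne hG ht (by
    calc a = t * (t * a) := by rw [← mul_assoc, mul_self_of_orderOf ht, one_mul]
      _ = t := by rw [e, mul_one])
  have hne : t ≠ 1 := ne_one_of_orderOf ht
  have hane : a ≠ 1 := ne_one_of_orderOf (hy.orderOf_a ht)
  rw [Finset.card_insert_of_notMem, Finset.card_insert_of_notMem, Finset.card_pair]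
  · intro e; exact hne (mul_eq_right.mp e.symm)
  · simp only [Finset.mem_insert, Finset.mem_singleton, not_or]
    exact ⟨(hy.ne hG ht).symm, fun e => hane (left_eq_mul.mp e)⟩
  · simp only [Finset.mem_insert, Finset.mem_singleton, not_or]
    exact ⟨hne.symm, hane.symm, hta1.symm⟩

theorem arith_big {d k2 c N : ℕ} {s : ℤ} (h4 : 4 ≤ d) (hs : s < d) (hb : (16 : ℤ) ≤ d + 15 * s)
    (hk : 1 ≤ k2) (hc : (c : ℤ) ^ 2 = (k2 : ℤ) * ((d : ℤ) - s) ^ 2)
    (hN : 3 * (N : ℤ) = (k2 : ℤ) * ((d : ℤ) ^ 2 + 2 * d + 2 * d * s + s))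
    (hle : 4 * N ≤ c * (c + 6)) : False := by
  set D := (d : ℤ) - s with hD
  have hD1 : 1 ≤ D := by omega
  have hcD : (c : ℤ) ≤ (k2 : ℤ) * D := by
    have hk' : (1 : ℤ) ≤ (k2 : ℤ) := by exact_mod_cast hk
    have hsq : (c : ℤ) ^ 2 ≤ ((k2 : ℤ) * D) ^ 2 := by
      nlinarith [mul_nonneg (mul_nonneg (Int.natCast_nonneg k2) (sub_nonneg.mpr hk')) (sq_nonneg D)]
    exact le_of_pow_le_pow_left₀ two_ne_zero (by positivity) hsq
  have hle' : 4 * (N : ℤ) ≤ (c : ℤ) * ((c : ℤ) + 6) := by exact_mod_cast hle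
  have hq : (k2 : ℤ) * (4 * ((d : ℤ) ^ 2 + 2 * d + 2 * d * s + s) - 3 * D ^ 2) ≤ (k2 : ℤ) * (18 * D) := by
    nlinarith
  have hq2 := le_of_mul_le_mul_left hq (by exact_mod_cast hk)
  have hd4 : (4 : ℤ) ≤ (d : ℤ) := by exact_mod_cast h4
  have hs' : s = (d : ℤ) - D := by omega
  rw [hs'] at hq2 hb
  nlinarith [mul_nonneg (show (0 : ℤ) ≤ 16 * (d : ℤ) - 16 - 15 * D by omega) (show (0 : ℤ) ≤ D by omega),
    mul_nonneg (show (0 : ℤ) ≤ 16 * (d : ℤ) - 16 - 15 * D by omega) (show (0 : ℤ) ≤ (d : ℤ) - 4 by omega)]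

theorem arith_small {d k2 c N : ℕ} {s : ℤ} (h4 : 4 ≤ d) (hm : d % 3 = 1) (hs : s < d)
    (hb : (4 : ℤ) ≤ d + 3 * s) (hk : 1 ≤ k2) (hc : (c : ℤ) ^ 2 = (k2 : ℤ) * ((d : ℤ) - s) ^ 2)
    (hN : 3 * (N : ℤ) = (k2 : ℤ) * ((d : ℤ) ^ 2 + 2 * d + 2 * d * s + s))
    (hle : N ≤ 2 * c) : k2 = 1 ∧ (d = 4 ∨ d = 7) := by
  set D := (d : ℤ) - s with hD
  set q := (d : ℤ) ^ 2 + 2 * d + 2 * d * s + s with hq
  have hD1 : 1 ≤ D := by omega
  have hle' : (k2 : ℤ) * q ≤ 6 * c := by
    have : (N : ℤ) ≤ 2 * (c : ℤ) := by exact_mod_cast hle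
    omega
  have hcD : (c : ℤ) ≤ (k2 : ℤ) * D := by
    have hk' : (1 : ℤ) ≤ (k2 : ℤ) := by exact_mod_cast hk
    have hsq : (c : ℤ) ^ 2 ≤ ((k2 : ℤ) * D) ^ 2 := by
      nlinarith [mul_nonneg (mul_nonneg (Int.natCast_nonneg k2) (sub_nonneg.mpr hk')) (sq_nonneg D)]
    exact le_of_pow_le_pow_left₀ two_ne_zero (by positivity) hsq
  have hq2 : q ≤ 6 * D := le_of_mul_le_mul_left
    (show (k2 : ℤ) * q ≤ (k2 : ℤ) * (6 * D) by nlinarith) (by exact_mod_cast hk)
  have hd7 : (d : ℤ) ≤ 7 := by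
    nlinarith [mul_nonneg (show (0 : ℤ) ≤ 4 * (d : ℤ) - 4 - 3 * D by omega)
      (show (0 : ℤ) ≤ (d : ℤ) - 4 by omega)]
  have hd : d = 4 ∨ d = 7 := by omega
  refine ⟨?_, hd⟩
  rcases hd with rfl | rfl
  · have : s = 0 := by
      simp only [hq, hD] at hq2
      push_cast at hq2 hb hs
      omega
    subst this
    simp only [hq, hD] at hle' hc
    push_cast at hle' hc
    nlinarith
  · have : s = -1 := by
      simp only [hq, hD] at hq2
      push_cast at hq2 hb hs
      omega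
    subst this
    simp only [hq, hD] at hle' hc
    push_cast at hle' hc
    nlinarith

/-- The theorem of Feit and Thompson for simple groups. -/
theorem card_of_simple [IsSimpleGroup G] (hna : ¬ IsMulCommutative G) {x : G} (hx : SC x) :
    Nat.card G = 60 ∨ Nat.card G = 168 := by
  obtain ⟨D₀⟩ := exists_data hna hx
  have hG : Hyp G := ⟨fun y hy => (sc_of_order_three hx hy).1, D₀.isConj⟩
  obtain ⟨t, ht⟩ : ∃ t : G, orderOf t = 2 := by
    have : Fact (Nat.Prime 2) := ⟨Nat.prime_two⟩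
    refine exists_prime_orderOf_dvd_card' (G := G) 2 (dvd_trans ?_ D₀.dvd)
    exact dvd_mul_of_dvd_right (Nat.even_mul_succ_self D₀.d).two_dvd 3
  set c := Nat.card (centralizer ({t} : Set G)) with hc
  have key : ∀ {y : G} (hy : SC y) (Dy : Data G y), ∃ k2 : ℕ, 1 ≤ k2 ∧
      Nat.card G = 3 * (Dy.d * (Dy.d + 1)) * k2 ∧
      (c : ℤ) ^ 2 = (k2 : ℤ) * ((Dy.d : ℤ) - Dy.s) ^ 2 ∧
      3 * (Nat.card (Pair t) : ℤ) =
        (k2 : ℤ) * ((Dy.d : ℤ) ^ 2 + 2 * Dy.d + 2 * Dy.d * Dy.s + Dy.s) := by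
    intro y hy Dy
    obtain ⟨k2, hk⟩ := Dy.dvd
    have hk1 : 1 ≤ k2 := by
      rcases Nat.eq_zero_or_pos k2 with rfl | h
      · rw [mul_zero] at hk; exact absurd hk Nat.card_pos.ne'
      · exact h
    have hM : (0 : ℤ) < 3 * ((Dy.d : ℤ) * ((Dy.d : ℤ) + 1)) := by
      have : (4 : ℤ) ≤ Dy.d := by exact_mod_cast Dy.four_le
      positivity
    refine ⟨k2, hk1, hk, ?_, ?_⟩
    · have h := Dy.eq t ht
      rw [hk] at h
      push_cast at h
      exact mul_left_cancel₀ hM.ne' (by linear_combination h)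
    · have h := Dy.pairs t ht
      rw [← card_pair_eq hy (isConj_of_sc hna hy), hk] at h
      push_cast at h
      exact mul_left_cancel₀ hM.ne' (by linear_combination h)
  by_cases hsmall : SmallCent t
  · -- no further involutions
    obtain ⟨k2, hk1, -, -, hN⟩ := key hx D₀
    have hpos : Nat.card (Pair t) ≠ 0 := by
      intro h0
      rw [h0, Nat.cast_zero, mul_zero] at hN
      have hq0 := (mul_eq_zero.mp hN.symm).resolve_left (by exact_mod_cast (show k2 ≠ 0 by omega))
      have hd4 : (4 : ℤ) ≤ D₀.d := by exact_mod_cast D₀.four_le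
      have h3 : (2 * (D₀.d : ℤ) + 1) ∣ 3 :=
        ⟨2 * (D₀.d : ℤ) + 3 + 4 * D₀.s, by linear_combination (-4) * hq0⟩
      have := Int.le_of_dvd (by norm_num) h3
      omega
    obtain ⟨p⟩ := (Nat.card_ne_zero.mp hpos).1
    have hy := cyc_of_pair hG ht p
    have hsy := hG.sc _ hy.ord
    obtain ⟨Dy⟩ := exists_data hna hsy
    obtain ⟨k2, hk1, hcard, hc2, hN⟩ := key hsy Dy
    obtain ⟨A, hAY, hA2, hAinv, hA4⟩ := exists_four hG ht hy
    have hbd := Dy.bound A hA2 hAinv
      (fun h => not_three_dvd_centTwo hG ht (h.trans (card_dvd_of_le hAY)))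
    have hb : (4 : ℤ) ≤ Dy.d + 3 * Dy.s := by
      have h1 : (4 : ℤ) ≤ (Nat.card A : ℤ) := by exact_mod_cast hA4
      have h2 : (4 : ℤ) ≤ (Dy.d : ℤ) := by exact_mod_cast Dy.four_le
      rcases le_or_gt Dy.s 0 with hs | hs
      · nlinarith
      · omega
    obtain ⟨hk, hd⟩ := arith_small Dy.four_le Dy.mod_three Dy.s_lt hb hk1 hc2 hN
      (card_pair_le_of_small hG ht hsmall)
    rw [hk, mul_one] at hcard
    rcases hd with e | e <;> rw [e] at hcard
    · exact Or.inl hcard
    · exact Or.inr hcard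
  · exfalso
    simp only [SmallCent, not_forall] at hsmall
    obtain ⟨a, ⟨y, hy⟩, w, hw, hw2, hne⟩ := hsmall
    push Not at hne
    obtain ⟨A, hAY, hA2, hAinv, hA16⟩ := exists_sixteen hG ht hy hw hw2 hne
      (by rintro z (rfl | rfl); exacts [(mem_centTwo.mp hw).1, (mem_centTwo.mp hw).2])
    have hsy := hG.sc y hy.ord
    obtain ⟨Dy⟩ := exists_data hna hsy
    obtain ⟨k2, hk1, -, hc2, hN⟩ := key hsy Dy
    have hbd := Dy.bound A hA2 hAinv
      (fun h => not_three_dvd_centTwo hG ht (h.trans (card_dvd_of_le hAY)))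
    have hb : (16 : ℤ) ≤ Dy.d + 15 * Dy.s := by
      have h1 : (16 : ℤ) ≤ (Nat.card A : ℤ) := by exact_mod_cast hA16
      have h2 : (4 : ℤ) ≤ (Dy.d : ℤ) := by exact_mod_cast Dy.four_le
      rcases le_or_gt Dy.s 0 with hs | hs
      · nlinarith
      · omega
    exact arith_big Dy.four_le Dy.s_lt hb hk1 hc2 hN (four_mul_card_pair_le hG ht
      (lt_of_lt_of_le (by omega) (hA16.trans (card_le_of_le (hAY.trans centTwo_le)))))

end Cfsg.Agent.SelfCentThree
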