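import Cfsg.Agent.Lib.SelfCentThree.Basic

/-!
# Pairs of elements of order three with product a given involution

`Hyp G` : all elements of order 3 are self-centralizing and all involutions are conjugate.
`Good t a` : some element of order 3 permutes `t, a, ta` cyclically.  `Pair t` : the pairs.
-/

set_option autoImplicit false
set_option linter.unusedSectionVars false

namespace Cfsg.Agent.SelfCentThree

open Subgroup

variable {G : Type*} [Group G]

/-- The standing hypotheses. -/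
structure Hyp (G : Type*) [Group G] : Prop where
  sc : ∀ y : G, orderOf y = 3 → SC y
  conj : ∀ t u : G, orderOf t = 2 → orderOf u = 2 → IsConj t u

/-- `y` permutes `t`, `a`, `t * a` cyclically. -/
structure Cyc (t a y : G) : Prop where
  ord : orderOf y = 3
  fst : y * t * y⁻¹ = a
  snd : y * a * y⁻¹ = t * a

/-- Some element of order 3 permutes `t`, `a`, `t * a`. -/
def Good (t a : G) : Prop := ∃ y, Cyc t a y

/-- The centralizer of `t` and `a`. -/
def centTwo (t a : G) : Subgroup G := centralizer ({t} : Set G) ⊓ centralizer ({a} : Set G)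

/-- Pairs of elements of order 3 with product `t`. -/
abbrev Pair (t : G) : Type _ := {p : G × G // orderOf p.1 = 3 ∧ orderOf p.2 = 3 ∧ p.1 * p.2 = t}

theorem mem_centTwo {t a g : G} : g ∈ centTwo t a ↔ g * t = t * g ∧ g * a = a * g := by
  simp [centTwo, mem_inf, mem_centralizer_singleton_iff]

theorem centTwo_le {t a : G} : centTwo t a ≤ centralizer ({t} : Set G) := inf_le_left

variable {t a y : G}

theorem orderOf_eq_two {z : G} (h2 : z * z = 1) (h1 : z ≠ 1) : orderOf z = 2 :=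
  orderOf_eq_prime (hp := ⟨Nat.prime_two⟩) (by rw [pow_two, h2]) h1

theorem mul_self_of_orderOf {z : G} (h : orderOf z = 2) : z * z = 1 := by
  rw [← pow_two, ← h, pow_orderOf_eq_one]

theorem ne_one_of_orderOf {z : G} (h : orderOf z = 2) : z ≠ 1 := fun e => by
  rw [e, orderOf_one] at h; omega

theorem Cyc.orderOf_a (h : Cyc t a y) (ht : orderOf t = 2) : orderOf a = 2 := by
  rw [← h.fst, show y * t * y⁻¹ = MulAut.conj y t from rfl, MulEquiv.orderOf_eq, ht]

theorem Cyc.commute (h : Cyc t a y) (ht : orderOf t = 2) : Commute t a := by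
  have ha := mul_self_of_orderOf (h.orderOf_a ht)
  have hb : (t * a) * (t * a) = 1 := by
    rw [← h.snd]
    calc y * a * y⁻¹ * (y * a * y⁻¹) = y * (a * a) * y⁻¹ := by group
      _ = 1 := by rw [ha]; group
  have ht' := mul_self_of_orderOf ht
  have e : t * a = (t * a)⁻¹ := (inv_eq_of_mul_eq_one_right hb).symm
  rw [mul_inv_rev, inv_eq_of_mul_eq_one_right ha, inv_eq_of_mul_eq_one_right ht'] at e
  exact e

theorem Cyc.thd (h : Cyc t a y) (ht : orderOf t = 2) : y * (t * a) * y⁻¹ = t := by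
  have ha := mul_self_of_orderOf (h.orderOf_a ht)
  calc y * (t * a) * y⁻¹ = (y * t * y⁻¹) * (y * a * y⁻¹) := by group
    _ = a * (t * a) := by rw [h.fst, h.snd]
    _ = t := by rw [(h.commute ht).eq, ← mul_assoc, ha, one_mul]

theorem Cyc.ne (h : Cyc t a y) (hG : Hyp G) (ht : orderOf t = 2) : a ≠ t := fun e => by
  have hc : Commute t y := by
    have := h.fst
    rw [e] at this
    exact (mul_inv_eq_iff_eq_mul.mp this).symm
  have hd := orderOf_dvd_of_mem_zpowers ((hG.sc y h.ord).cent t hc)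
  rw [h.ord, ht] at hd
  omega

theorem self_mem_centTwo (h : Cyc t a y) (ht : orderOf t = 2) : t ∈ centTwo t a ∧ a ∈ centTwo t a :=
  ⟨mem_centTwo.mpr ⟨rfl, (h.commute ht).eq⟩, mem_centTwo.mpr ⟨(h.commute ht).eq.symm, rfl⟩⟩

theorem Cyc.invar (h : Cyc t a y) (ht : orderOf t = 2) : Invar y (centTwo t a) := by
  intro g hg
  obtain ⟨h1, h2⟩ := mem_centTwo.mp hg
  have e1 : y * g * y⁻¹ * a = a * (y * g * y⁻¹) := by
    rw [← h.fst]
    calc y * g * y⁻¹ * (y * t * y⁻¹) = y * (g * t) * y⁻¹ := by group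
      _ = y * (t * g) * y⁻¹ := by rw [h1]
      _ = _ := by group
  have e2 : y * g * y⁻¹ * (t * a) = t * a * (y * g * y⁻¹) := by
    rw [← h.snd]
    calc y * g * y⁻¹ * (y * a * y⁻¹) = y * (g * a) * y⁻¹ := by group
      _ = y * (a * g) * y⁻¹ := by rw [h2]
      _ = _ := by group
  refine mem_centTwo.mpr ⟨?_, e1⟩
  have ha := mul_self_of_orderOf (h.orderOf_a ht)
  have et : t = (t * a) * a := by rw [mul_assoc, ha, mul_one]
  rw [et]
  exact ((show Commute (y * g * y⁻¹) (t * a) from e2).mul_right e1).eq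

/-- Two elements inducing the same 3-cycle differ by an element of the centralizer. -/
theorem Cyc.mul_inv_mem {y' : G} (h : Cyc t a y) (h' : Cyc t a y') (ht : orderOf t = 2) :
    y' * y⁻¹ ∈ centTwo t a := by
  have hb : ∀ z : G, Cyc t a z → z⁻¹ * a * z = t ∧ z⁻¹ * (t * a) * z = a := fun z hz => by
    constructor
    · rw [← hz.fst]; group
    · rw [← hz.snd]; group
  refine mem_centTwo.mpr ⟨?_, ?_⟩
  · have e : y⁻¹ * t * y = t * a := by
      calc y⁻¹ * t * y = y⁻¹ * (y * (t * a) * y⁻¹) * y := by rw [h.thd ht]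
        _ = t * a := by group
    calc y' * y⁻¹ * t = y' * (y⁻¹ * t * y) * y⁻¹ := by group
      _ = (y' * (t * a) * y'⁻¹) * (y' * y⁻¹) := by rw [e]; group
      _ = t * (y' * y⁻¹) := by rw [h'.thd ht]
  · calc y' * y⁻¹ * a = y' * (y⁻¹ * a * y) * y⁻¹ := by group
      _ = (y' * t * y'⁻¹) * (y' * y⁻¹) := by rw [(hb y h).1]; group
      _ = a * (y' * y⁻¹) := by rw [h'.fst]

theorem Cyc.conj (h : Cyc t a y) {g : G} (hg : g ∈ centralizer ({t} : Set G)) :
    Cyc t (g * a * g⁻¹) (g * y * g⁻¹) := by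
  have hgt : g * t * g⁻¹ = t := mul_inv_eq_iff_eq_mul.mpr (mem_centralizer_singleton_iff.mp hg)
  refine ⟨by rw [show g * y * g⁻¹ = MulAut.conj g y from rfl, MulEquiv.orderOf_eq, h.ord], ?_, ?_⟩
  · calc g * y * g⁻¹ * t * (g * y * g⁻¹)⁻¹ = g * y * g⁻¹ * (g * t * g⁻¹) * (g * y * g⁻¹)⁻¹ := by rw [hgt]
      _ = g * (y * t * y⁻¹) * g⁻¹ := by group
      _ = _ := by rw [h.fst]
  · calc g * y * g⁻¹ * (g * a * g⁻¹) * (g * y * g⁻¹)⁻¹ = g * (y * a * y⁻¹) * g⁻¹ := by group
      _ = g * t * g⁻¹ * (g * a * g⁻¹) := by rw [h.snd]; group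
      _ = _ := by rw [hgt]

theorem cyc_of_pair (hG : Hyp G) (ht : orderOf t = 2) (p : Pair t) :
    Cyc t (p.1.1 * t * p.1.1⁻¹) p.1.1 := by
  obtain ⟨⟨y, y'⟩, hy, hy', he⟩ := p
  refine ⟨hy, rfl, ?_⟩
  have hsy := hG.sc y hy
  have e' : y' = y⁻¹ * t := eq_inv_mul_of_mul_eq he
  have hcube : (y⁻¹ * t) ^ 3 = 1 := by rw [← e', ← hy', pow_orderOf_eq_one]
  have ht2 := mul_self_of_orderOf ht
  set a' := y * t * y⁻¹ with ha
  set b := y * a' * y⁻¹ with hb
  have hbe : b = y⁻¹ * t * y := by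
    rw [hb, ha, hsy.inv_eq]
    calc y * (y * t * (y * y)) * (y * y) = y * y * t * y * (y ^ 3) := by rw [pow_three]; group
      _ = y * y * t * y := by rw [hsy.cubed, mul_one]
  have hba : b * a' * t = 1 := by
    rw [hbe, ha]
    calc y⁻¹ * t * y * (y * t * y⁻¹) * t = y⁻¹ * t * (y * y) * t * y⁻¹ * t := by group
      _ = (y⁻¹ * t) ^ 3 := by rw [← hsy.inv_eq, pow_three]; group
      _ = 1 := hcube
  have hb2 : b * b = 1 := by
    rw [hbe]
    calc y⁻¹ * t * y * (y⁻¹ * t * y) = y⁻¹ * (t * t) * y := by group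
      _ = 1 := by rw [ht2]; group
  have ha2 : a' * a' = 1 := by
    rw [ha]
    calc y * t * y⁻¹ * (y * t * y⁻¹) = y * (t * t) * y⁻¹ := by group
      _ = 1 := by rw [ht2]; group
  have e1 : b * a' = t := by rw [← inv_eq_of_mul_eq_one_right ht2]; exact eq_inv_of_mul_eq_one_left hba
  show b = t * a'
  calc b = b * (a' * a') := by rw [ha2, mul_one]
    _ = t * a' := by rw [← mul_assoc, e1]

variable [Finite G]

theorem Hyp.not_three_dvd (hG : Hyp G) {u : G} (hu : orderOf u = 2) :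
    ¬ 3 ∣ Nat.card (centralizer ({u} : Set G)) := by
  intro h
  have : Fact (Nat.Prime 3) := ⟨Nat.prime_three⟩
  obtain ⟨g, hg⟩ := exists_prime_orderOf_dvd_card' (G := centralizer ({u} : Set G)) 3 h
  rw [← Subgroup.orderOf_coe] at hg
  have hd := orderOf_dvd_of_mem_zpowers ((hG.sc _ hg).cent u
    (mem_centralizer_singleton_iff.mp g.2).symm)
  rw [hg, hu] at hd
  omega

theorem not_three_dvd_centTwo (hG : Hyp G) (ht : orderOf t = 2) :
    ¬ 3 ∣ Nat.card (centTwo t a) := fun h =>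
  hG.not_three_dvd ht (h.trans (Subgroup.card_dvd_of_le centTwo_le))

theorem Hyp.card_centralizer_eq (hG : Hyp G) {u w : G} (hu : orderOf u = 2) (hw : orderOf w = 2) :
    Nat.card (centralizer ({u} : Set G)) = Nat.card (centralizer ({w} : Set G)) := by
  obtain ⟨g, hg⟩ := isConj_iff.mp (hG.conj u w hu hw)
  refine Nat.card_congr ((MulAut.conj g).toEquiv.subtypeEquiv fun z => ?_)
  rw [mem_centralizer_singleton_iff, mem_centralizer_singleton_iff, MulEquiv.toEquiv_eq_coe,
    MulEquiv.coe_toEquiv, ← hg, show g * u * g⁻¹ = MulAut.conj g u from rfl, ← map_mul, ← map_mul]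
  exact (MulAut.conj g).injective.eq_iff.symm

/-- An involution centralized by all of `C(t)` has the same centralizer. -/
theorem Hyp.centralizer_eq (hG : Hyp G) {u w : G} (hu : orderOf u = 2) (hw : orderOf w = 2)
    (h : ∀ g ∈ centralizer ({u} : Set G), g * w = w * g) :
    centralizer ({w} : Set G) = centralizer ({u} : Set G) :=
  (eq_of_le_of_card_ge (fun g hg => mem_centralizer_singleton_iff.mpr (h g hg))
    (hG.card_centralizer_eq hu hw).ge).symm

/-- The number of pairs is at most the sum of the orders of the centralizers. -/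
theorem card_pair_le (hG : Hyp G) (ht : orderOf t = 2) [Fintype {a : G // Good t a}] :
    Nat.card (Pair t) ≤ ∑ a : {a : G // Good t a}, Nat.card (centTwo t (a : G)) := by
  classical
  rw [← Nat.card_sigma]
  let f : Pair t → (Σ a : {a : G // Good t a}, centTwo t (a : G)) := fun p =>
    ⟨⟨p.1.1 * t * p.1.1⁻¹, p.1.1, cyc_of_pair hG ht p⟩,
      ⟨p.1.1 * (Classical.choose (show Good t (p.1.1 * t * p.1.1⁻¹) from ⟨_, cyc_of_pair hG ht p⟩))⁻¹,
        (Classical.choose_spec (show Good t (p.1.1 * t * p.1.1⁻¹) from ⟨_, cyc_of_pair hG ht p⟩)).mul_inv_mem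
          (cyc_of_pair hG ht p) ht⟩⟩
  refine Nat.card_le_card_of_injective f fun p q h => ?_
  have h1 : p.1.1 * t * p.1.1⁻¹ = q.1.1 * t * q.1.1⁻¹ := congrArg (fun z => (z.1 : G)) h
  have h2 := congrArg (fun z : (Σ a : {a : G // Good t a}, centTwo t (a : G)) => (z.2 : G)) h
  simp only [f] at h2
  have e : Classical.choose (show Good t (p.1.1 * t * p.1.1⁻¹) from ⟨_, cyc_of_pair hG ht p⟩) =
      Classical.choose (show Good t (q.1.1 * t * q.1.1⁻¹) from ⟨_, cyc_of_pair hG ht q⟩) := by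
    congr 1
    rw [h1]
  rw [e] at h2
  have h3 : p.1.1 = q.1.1 := mul_right_cancel h2
  refine Subtype.ext (Prod.ext h3 ?_)
  exact mul_left_cancel (p.2.2.2.trans (by rw [h3]; exact q.2.2.2.symm))

/-- If the good elements fall into two classes of `C(t)` there are at most `2|C(t)|` pairs. -/
theorem card_pair_le_two (hG : Hyp G) (ht : orderOf t = 2) (r : Bool → G)
    (hr : ∀ a, Good t a → ∃ i, ∃ h ∈ centralizer ({t} : Set G), h * r i * h⁻¹ = a) :
    Nat.card (Pair t) ≤ 2 * Nat.card (centralizer ({t} : Set G)) := by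
  classical
  choose! i h hh hconj using hr
  choose! z hz using (fun a (ha : Good t a) => (ha : ∃ y, Cyc t a y))
  have hgood : ∀ p : Pair t, Good t (p.1.1 * t * p.1.1⁻¹) := fun p => ⟨_, cyc_of_pair hG ht p⟩
  let f : Pair t → Bool × centralizer ({t} : Set G) := fun p =>
    (i (p.1.1 * t * p.1.1⁻¹), ⟨p.1.1 * (z (p.1.1 * t * p.1.1⁻¹))⁻¹ * h (p.1.1 * t * p.1.1⁻¹),
      Subgroup.mul_mem _ (centTwo_le ((hz _ (hgood p)).mul_inv_mem (cyc_of_pair hG ht p) ht))
        (hh _ (hgood p))⟩)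
  have key : ∀ p, ((f p).2 : G) * r (f p).1 * ((f p).2 : G)⁻¹ = p.1.1 * t * p.1.1⁻¹ := by
    intro p
    set a := p.1.1 * t * p.1.1⁻¹ with ha
    have hk := (mem_centTwo.mp ((hz _ (hgood p)).mul_inv_mem (cyc_of_pair hG ht p) ht)).2
    show p.1.1 * (z a)⁻¹ * h a * r (i a) * (p.1.1 * (z a)⁻¹ * h a)⁻¹ = a
    calc p.1.1 * (z a)⁻¹ * h a * r (i a) * (p.1.1 * (z a)⁻¹ * h a)⁻¹
        = (p.1.1 * (z a)⁻¹) * (h a * r (i a) * (h a)⁻¹) * (p.1.1 * (z a)⁻¹)⁻¹ := by group
      _ = (p.1.1 * (z a)⁻¹) * a * (p.1.1 * (z a)⁻¹)⁻¹ := by rw [hconj _ (hgood p)]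
      _ = a := mul_inv_eq_iff_eq_mul.mpr hk
  refine (Nat.card_le_card_of_injective f fun p q hpq => ?_).trans ?_
  · have h1 : p.1.1 * t * p.1.1⁻¹ = q.1.1 * t * q.1.1⁻¹ := by rw [← key p, ← key q, hpq]
    have h2 := congrArg (fun w : Bool × centralizer ({t} : Set G) => (w.2 : G)) hpq
    simp only [f, h1] at h2
    have h3 : p.1.1 = q.1.1 := mul_right_cancel (mul_right_cancel h2)
    exact Subtype.ext (Prod.ext h3 (mul_left_cancel (p.2.2.2.trans (by rw [h3]; exact q.2.2.2.symm))))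
  · rw [Nat.card_prod, Nat.card_eq_fintype_card (α := Bool), Fintype.card_bool]

end Cfsg.Agent.SelfCentThree
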